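import Cfsg.Agent.ChevClassical.Model
import Cfsg.Prelude.Def_ChevD4

/-! The model of `chevD4` in a split orthogonal space (generated data, checked by the kernel). -/

set_option autoImplicit false
set_option maxHeartbeats 2000000
set_option synthInstance.maxSize 1024
set_option synthInstance.maxHeartbeats 400000

namespace CfsgLib.ChevClassical

/-- The frame of `∑ xᵢyᵢ` in dimension eight. -/
def frameD4 : Frame (Fin 4 ⊕ Fin 4) where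
  mate := Sum.swap
  first p := p.isLeft
  mate_mate := by decide
  first_mate := by decide
  first_fixed := by decide
  fixed_unique := by decide

def modelPD4c0 : List (Terms (Fin 4 ⊕ Fin 4)) :=
  [[(1, .inr 0, .inl 0), (-1, .inl 0, .inr 0)], [(1, .inr 0, .inl 0), (-1, .inl 0, .inr 0), (1, .inr 1, .inl 1), (-1, .inl 1, .inr 1)], [(1, .inr 0, .inl 0), (1, .inr 1, .inl 1), (1, .inr 2, .inl 2), (1, .inl 3, .inr 3)], [(1, .inr 0, .inl 0), (1, .inr 1, .inl 1), (1, .inr 2, .inl 2), (1, .inr 3, .inl 3)], [(-1, .inr 0, .inr 1), (1, .inr 1, .inr 0)], [(1, .inr 0, .inr 2), (-1, .inr 2, .inr 0)], [(-1, .inr 0, .inl 3), (1, .inl 3, .inr 0)], [(-1, .inr 0, .inr 3), (1, .inr 3, .inr 0)], [(-1, .inr 0, .inl 2), (1, .inl 2, .inr 0)], [(-1, .inr 0, .inl 1), (1, .inl 1, .inr 0)], [(1, .inr 1, .inr 2), (-1,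 .inr 2, .inr 1)], [(-1, .inr 1, .inl 3), (1, .inl 3, .inr 1)], [(-1, .inr 1, .inr 3), (1, .inr 3, .inr 1)], [(-1, .inr 1, .inl 2), (1, .inl 2, .inr 1)], [(-1, .inr 2, .inl 3), (1, .inl 3, .inr 2)], [(-1, .inr 2, .inr 3), (1, .inr 3, .inr 2)], [(1, .inl 2, .inl 3), (-1, .inl 3, .inl 2)], [(1, .inl 2, .inr 3), (-1, .inr 3, .inl 2)], [(1, .inl 1, .inr 2), (-1, .inr 2, .inl 1)], [(1, .inl 1, .inl 3), (-1, .inl 3, .inl 1)]]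

def modelPD4c1 : List (Terms (Fin 4 ⊕ Fin 4)) :=
  [[(1, .inl 1, .inr 3), (-1, .inr 3, .inl 1)], [(-1, .inl 1, .inl 2), (1, .inl 2, .inl 1)], [(1, .inl 0, .inr 1), (-1, .inr 1, .inl 0)], [(1, .inl 0, .inr 2), (-1, .inr 2, .inl 0)], [(1, .inl 0, .inl 3), (-1, .inl 3, .inl 0)], [(1, .inl 0, .inr 3), (-1, .inr 3, .inl 0)], [(-1, .inl 0, .inl 2), (1, .inl 2, .inl 0)], [(1, .inl 0, .inl 1), (-1, .inl 1, .inl 0)]]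

def modelPD4 : List (Terms (Fin 4 ⊕ Fin 4)) :=
  modelPD4c0 ++ modelPD4c1

def modelTD4c0 : List (Terms (Fin 4 ⊕ Fin 4)) :=
  [[(1, .inr 0, .inl 0), (-1, .inr 1, .inl 1)], [(1, .inr 1, .inl 1), (-1, .inr 2, .inl 2)], [(1, .inr 2, .inl 2), (-1, .inr 3, .inl 3)], [(1, .inr 2, .inl 2), (1, .inr 3, .inl 3)], [(-1, .inr 0, .inr 1)], [(1, .inr 0, .inr 2)], [(-1, .inr 0, .inl 3)], [(-1, .inr 0, .inr 3)], [(-1, .inr 0, .inl 2)], [(-1, .inr 0, .inl 1)], [(1, .inr 1, .inr 2)], [(-1, .inr 1, .inl 3)], [(-1, .inr 1, .inr 3)], [(-1, .inr 1, .inl 2)], [(-1, .inr 2, .inl 3)], [(-1, .inr 2, .inr 3)], [(1, .inl 2, .inl 3)], [(1, .inl 2, .inr 3)], [(1, .inl 1, .inr 2)], [(1, .inl 1, .inl 3)]]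

def modelTD4c1 : List (Terms (Fin 4 ⊕ Fin 4)) :=
  [[(1, .inl 1, .inr 3)], [(-1, .inl 1, .inl 2)], [(1, .inl 0, .inr 1)], [(1, .inl 0, .inr 2)], [(1, .inl 0, .inl 3)], [(1, .inl 0, .inr 3)], [(-1, .inl 0, .inl 2)], [(1, .inl 0, .inl 1)]]

def modelTD4 : List (Terms (Fin 4 ⊕ Fin 4)) :=
  modelTD4c0 ++ modelTD4c1

def modelSD4 : List ℤ :=
  [0, 0, 1, 1, 0, 0, 0, 0, 0, 0, 0, 0, 0, 0, 0, 0, 0, 0, 0, 0, 0, 0, 0, 0, 0, 0, 0, 0]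

def modelKD4c0 : List (List ℤ) :=
  [[0, 0, 0, 0, 0, 0, 0, 0, 0, 0, 0, 0, 0, 0, 0, 0, 0, 0, 0, 0, 0, 0, 0, 0, 0, 0, 0, 0], [0, 0, 0, 0, 0, 0, 0, 0, 0, 0, 0, 0, 0, 0, 0, 0, 0, 0, 0, 0, 0, 0, 0, 0, 0, 0, 0, 0], [0, 0, 0, 1, 0, 0, 0, 0, 0, 0, 0, 0, 0, 0, 0, 0, 0, 0, 0, 0, 0, 0, 0, 0, 0, 0, 0, 0], [0, 0, 0, 1, 0, 0, 0, 0, 0, 0, 0, 0, 0, 0, 0, 0, 0, 0, 0, 0, 0, 0, 0, 0, 0, 0, 0, 0], [0, 0, 0, 0, 0, 0, 0, 0, 0, 0, 0, 0, 0, 0, 0, 0, 0, 0, 0, 0, 0, 0, 0, 0, 0, 0, 0, 0], [0, 0, 0, 0, 0, 0, 0, 0, 0, 0, 0, 0, 0, 0, 0, 0, 0, 0, 0, 0, 0, 0, 0, 0, 0, 0, 0, 0], [0, 0, 0, 0, 0, 0, 0, 0, 0, 0, 0, 0, 0, 0, 0, 0, 0, 0, 0, 0, 0, 0, 0, 0, 0, 0, 0, 0], [0, 0, 0, 0, 0, 0, 0, 0, 0, 0, 0, 0, 0, 0, 0, 0, 0, 0, 0, 0, 0, 0, 0, 0, 0, 0, 0, 0], [0, 0, 0, 0, 0, 0, 0, 0, 0, 0, 0, 0, 0, 0, 0, 0, 0, 0, 0, 0, 0, 0, 0, 0, 0,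 0, 0, 0], [0, 0, 0, 0, 0, 0, 0, 0, 0, 0, 0, 0, 0, 0, 0, 0, 0, 0, 0, 0, 0, 0, 0, 0, 0, 0, 0, 0]]

def modelKD4c1 : List (List ℤ) :=
  [[0, 0, 0, 0, 0, 0, 0, 0, 0, 0, 0, 0, 0, 0, 0, 0, 0, 0, 0, 0, 0, 0, 0, 0, 0, 0, 0, 0], [0, 0, 0, 0, 0, 0, 0, 0, 0, 0, 0, 0, 0, 0, 0, 0, 0, 0, 0, 0, 0, 0, 0, 0, 0, 0, 0, 0], [0, 0, 0, 0, 0, 0, 0, 0, 0, 0, 0, 0, 0, 0, 0, 0, 0, 0, 0, 0, 0, 0, 0, 0, 0, 0, 0, 0], [0, 0, 0, 0, 0, 0, 0, 0, 0, 0, 0, 0, 0, 0, 0, 0, 0, 0, 0, 0, 0, 0, 0, 0, 0, 0, 0, 0], [0, 0, 0, 0, 0, 0, 0, 0, 0, 0, 0, 0, 0, 0, 0, 0, 0, 0, 0, 0, 0, 0, 0, 0, 0, 0, 0, 0], [0, 0, 0, 0, 0, 0, 0, 0, 0, 0, 0, 0, 0, 0, 0, 0, 0, 0, 0, 0, 0, 0, 0, 0, 0, 0, 0, 0], [0, 0, 0, 0, 0, 0, 0, 0, 0, 0, 0, 0, 0, 0, 0, 0, 0, 0, 0, 0, 0, 0, 0, 0, 0, 0, 0, 0], [0, 0, 0, 0, 0, 0, 0, 0, 0, 0, 0, 0, 0, 0, 0, 0, 0, 0, 0, 0, 0, 0,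 0, 0, 0, 0, 0, 0], [0, 0, 0, 0, 0, 0, 0, 0, 0, 0, 0, 0, 0, 0, 0, 0, 0, 0, 0, 0, 0, 0, 0, 0, 0, 0, 0, 0], [0, 0, 0, 0, 0, 0, 0, 0, 0, 0, 0, 0, 0, 0, 0, 0, 0, 0, 0, 0, 0, 0, 0, 0, 0, 0, 0, 0]]

def modelKD4c2 : List (List ℤ) :=
  [[0, 0, 0, 0, 0, 0, 0, 0, 0, 0, 0, 0, 0, 0, 0, 0, 0, 0, 0, 0, 0, 0, 0, 0, 0, 0, 0, 0], [0, 0, 0, 0, 0, 0, 0, 0, 0, 0, 0, 0, 0, 0, 0, 0, 0, 0, 0, 0, 0, 0, 0, 0, 0, 0, 0, 0], [0, 0, 0, 0, 0, 0, 0, 0, 0, 0, 0, 0, 0, 0, 0, 0, 0, 0, 0, 0, 0, 0, 0, 0, 0, 0, 0, 0], [0, 0, 0, 0, 0, 0, 0, 0, 0, 0, 0, 0, 0, 0, 0, 0, 0, 0, 0, 0, 0, 0, 0, 0, 0, 0, 0, 0], [0, 0, 0, 0, 0, 0, 0, 0, 0, 0, 0, 0, 0, 0, 0, 0, 0, 0, 0, 0, 0, 0, 0, 0, 0, 0, 0, 0], [0, 0, 0, 0, 0, 0, 0, 0, 0, 0, 0, 0, 0, 0, 0, 0, 0, 0, 0, 0, 0, 0, 0, 0, 0, 0, 0, 0], [0, 0, 0, 0, 0, 0, 0, 0, 0, 0, 0, 0, 0, 0, 0, 0, 0, 0, 0,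 0, 0, 0, 0, 0, 0, 0, 0, 0], [0, 0, 0, 0, 0, 0, 0, 0, 0, 0, 0, 0, 0, 0, 0, 0, 0, 0, 0, 0, 0, 0, 0, 0, 0, 0, 0, 0]]

def modelKD4 : List (List ℤ) :=
  modelKD4c0 ++ modelKD4c1 ++ modelKD4c2

def modelRootD4 : List ((Fin 4 ⊕ Fin 4) × (Fin 4 ⊕ Fin 4) × ℤ) :=
  [(.inr 0, .inr 1, -1), (.inr 0, .inr 2, 1), (.inr 0, .inl 3, -1), (.inr 0, .inr 3, -1), (.inr 0, .inl 2, -1), (.inr 0, .inl 1, -1), (.inr 1, .inr 2, 1), (.inr 1, .inl 3, -1), (.inr 1, .inr 3, -1), (.inr 1, .inl 2, -1), (.inr 2, .inl 3, -1), (.inr 2, .inr 3, -1), (.inl 2, .inl 3, 1), (.inl 2, .inr 3, 1), (.inl 1, .inr 2, 1), (.inl 1, .inl 3, 1), (.inl 1, .inr 3, 1), (.inl 1, .inl 2, -1), (.inl 0, .inr 1, 1), (.inl 0, .inr 2, 1), (.inl 0, .inl 3, 1), (.inl 0, .inr 3, 1), (.inl 0, .inl 2, -1), (.inl 0, .inl 1, 1)]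

def modelXD4c0 : List (List (List (ℕ × ℤ × (Fin 4 ⊕ Fin 24)))) :=
  [[[(0, 1, .inl 0)], [(0, 1, .inl 1), (1, 1, .inr 0)], [(0, 1, .inl 2)], [(0, 1, .inl 3)], [(0, 1, .inr 0)], [(0, 1, .inr 1)], [(0, 1, .inr 2)], [(0, 1, .inr 3)], [(0, 1, .inr 4)], [(0, 1, .inr 5)], [(0, 1, .inr 6)], [(0, 1, .inr 7)], [(0, 1, .inr 8)], [(0, 1, .inr 9)], [(0, 1, .inr 10)], [(0, 1, .inr 11)], [(0, 1, .inr 12)], [(0, 1, .inr 13)], [(0, 1, .inr 14), (1, 1, .inr 1)], [(0, 1, .inr 15), (1, -1, .inr 2)], [(0, 1, .inr 16), (1, -1, .inr 3)], [(0, 1, .inr 17), (1, 1, .inr 4)], [(0, 1, .inr 18)], [(0, 1, .inr 19), (1, -1, .inr 6)], [(0, 1, .inr 20), (1, 1, .inr 7)], [(0, 1, .inr 21), (1, 1, .inr 8)], [(0, 1, .inr 22), (1, -1, .inr 9)], [(0, 1, .inr 23), (1, -1, .inl 0), (1, -2, .inl 1), (1, -1, .inl 2), (1, -1, .inl 3),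 (2, -1, .inr 0)]], [[(0, 1, .inl 0), (1, 1, .inr 1)], [(0, 1, .inl 1), (1, -1, .inr 1)], [(0, 1, .inl 2), (1, 1, .inr 1)], [(0, 1, .inl 3), (1, 1, .inr 1)], [(0, 1, .inr 0)], [(0, 1, .inr 1)], [(0, 1, .inr 2)], [(0, 1, .inr 3)], [(0, 1, .inr 4)], [(0, 1, .inr 5)], [(0, 1, .inr 6)], [(0, 1, .inr 7)], [(0, 1, .inr 8)], [(0, 1, .inr 9), (1, 1, .inr 0)], [(0, 1, .inr 10)], [(0, 1, .inr 11)], [(0, 1, .inr 12), (1, 1, .inr 2)], [(0, 1, .inr 13), (1, 1, .inr 3)], [(0, 1, .inr 14)], [(0, 1, .inr 15)], [(0, 1, .inr 16)], [(0, 1, .inr 17), (1, 1, .inr 5)], [(0, 1, .inr 18), (1, -1, .inr 6)], [(0, 1, .inr 19)], [(0, 1, .inr 20), (1, -1, .inr 10)], [(0, 1, .inr 21), (1, -1, .inr 11)], [(0, 1, .inr 22), (1, -1, .inl 0), (1, -1, .inl 1), (1, -1, .inl 2), (1, -1, .inl 3), (2, -1, .inr 1)], [(0, 1, .inr 23),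 (1, -1, .inr 14)]]]

def modelXD4c1 : List (List (List (ℕ × ℤ × (Fin 4 ⊕ Fin 24)))) :=
  [[[(0, 1, .inl 0), (1, 1, .inr 2)], [(0, 1, .inl 1)], [(0, 1, .inl 2), (1, 1, .inr 2)], [(0, 1, .inl 3), (1, -1, .inr 2)], [(0, 1, .inr 0)], [(0, 1, .inr 1)], [(0, 1, .inr 2)], [(0, 1, .inr 3)], [(0, 1, .inr 4)], [(0, 1, .inr 5)], [(0, 1, .inr 6)], [(0, 1, .inr 7)], [(0, 1, .inr 8), (1, -1, .inr 0)], [(0, 1, .inr 9)], [(0, 1, .inr 10)], [(0, 1, .inr 11), (1, 1, .inr 1)], [(0, 1, .inr 12)], [(0, 1, .inr 13), (1, 1, .inr 4)], [(0, 1, .inr 14)], [(0, 1, .inr 15)], [(0, 1, .inr 16), (1, 1, .inr 5)], [(0, 1, .inr 17)], [(0, 1, .inr 18), (1, -1, .inr 7)], [(0, 1, .inr 19), (1, -1, .inr 10)], [(0, 1, .inr 20)], [(0, 1, .inr 21), (1, -1, .inl 0), (1, -1, .inl 1), (1, -1, .inl 2), (2, -1, .inr 2)], [(0, 1, .inr 22),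 (1, -1, .inr 12)], [(0, 1, .inr 23), (1, 1, .inr 15)]], [[(0, 1, .inl 0), (1, 1, .inr 3)], [(0, 1, .inl 1)], [(0, 1, .inl 2), (1, -1, .inr 3)], [(0, 1, .inl 3), (1, 1, .inr 3)], [(0, 1, .inr 0)], [(0, 1, .inr 1)], [(0, 1, .inr 2)], [(0, 1, .inr 3)], [(0, 1, .inr 4)], [(0, 1, .inr 5)], [(0, 1, .inr 6)], [(0, 1, .inr 7), (1, -1, .inr 0)], [(0, 1, .inr 8)], [(0, 1, .inr 9)], [(0, 1, .inr 10), (1, 1, .inr 1)], [(0, 1, .inr 11)], [(0, 1, .inr 12), (1, 1, .inr 4)], [(0, 1, .inr 13)], [(0, 1, .inr 14)], [(0, 1, .inr 15), (1, 1, .inr 5)], [(0, 1, .inr 16)], [(0, 1, .inr 17)], [(0, 1, .inr 18), (1, -1, .inr 8)], [(0, 1, .inr 19), (1, -1, .inr 11)], [(0, 1, .inr 20), (1, -1, .inl 0), (1, -1, .inl 1), (1, -1, .inl 3), (2, -1, .inr 3)], [(0, 1, .inr 21)], [(0, 1, .inr 22), (1, -1, .inr 13)], [(0, 1, .inr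 23), (1, 1, .inr 16)]]]

def modelXD4c2 : List (List (List (ℕ × ℤ × (Fin 4 ⊕ Fin 24)))) :=
  [[[(0, 1, .inl 0), (1, 1, .inr 4)], [(0, 1, .inl 1), (1, 1, .inr 4)], [(0, 1, .inl 2), (1, -1, .inr 4)], [(0, 1, .inl 3), (1, -1, .inr 4)], [(0, 1, .inr 0)], [(0, 1, .inr 1)], [(0, 1, .inr 2)], [(0, 1, .inr 3)], [(0, 1, .inr 4)], [(0, 1, .inr 5)], [(0, 1, .inr 6), (1, 1, .inr 0)], [(0, 1, .inr 7)], [(0, 1, .inr 8)], [(0, 1, .inr 9)], [(0, 1, .inr 10), (1, 1, .inr 2)], [(0, 1, .inr 11), (1, 1, .inr 3)], [(0, 1, .inr 12)], [(0, 1, .inr 13)], [(0, 1, .inr 14), (1, 1, .inr 5)], [(0, 1, .inr 15)], [(0, 1, .inr 16)], [(0, 1, .inr 17)], [(0, 1, .inr 18), (1, -1, .inr 9)], [(0, 1, .inr 19), (1, -1, .inl 0), (1, -1, .inl 1), (2, -1, .inr 4)], [(0, 1, .inr 20), (1, -1, .inr 12)], [(0, 1, .inr 21), (1, -1, .inr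 13)], [(0, 1, .inr 22)], [(0, 1, .inr 23), (1, -1, .inr 17)]], [[(0, 1, .inl 0), (1, 2, .inr 5)], [(0, 1, .inl 1), (1, -1, .inr 5)], [(0, 1, .inl 2)], [(0, 1, .inl 3)], [(0, 1, .inr 0)], [(0, 1, .inr 1)], [(0, 1, .inr 2)], [(0, 1, .inr 3)], [(0, 1, .inr 4)], [(0, 1, .inr 5)], [(0, 1, .inr 6), (1, 1, .inr 1)], [(0, 1, .inr 7), (1, 1, .inr 2)], [(0, 1, .inr 8), (1, 1, .inr 3)], [(0, 1, .inr 9), (1, 1, .inr 4)], [(0, 1, .inr 10)], [(0, 1, .inr 11)], [(0, 1, .inr 12)], [(0, 1, .inr 13)], [(0, 1, .inr 14)], [(0, 1, .inr 15)], [(0, 1, .inr 16)], [(0, 1, .inr 17)], [(0, 1, .inr 18), (1, -1, .inl 0), (2, -1, .inr 5)], [(0, 1, .inr 19), (1, -1, .inr 14)], [(0, 1, .inr 20), (1, -1, .inr 15)], [(0, 1, .inr 21), (1, -1, .inr 16)], [(0, 1, .inr 22), (1, -1, .inr 17)], [(0, 1, .inr 23)]]]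

def modelXD4c3 : List (List (List (ℕ × ℤ × (Fin 4 ⊕ Fin 24)))) :=
  [[[(0, 1, .inl 0), (1, -1, .inr 6)], [(0, 1, .inl 1)], [(0, 1, .inl 2), (1, 1, .inr 6)], [(0, 1, .inl 3), (1, 1, .inr 6)], [(0, 1, .inr 0)], [(0, 1, .inr 1)], [(0, 1, .inr 2)], [(0, 1, .inr 3)], [(0, 1, .inr 4), (1, -1, .inr 0)], [(0, 1, .inr 5), (1, -1, .inr 1)], [(0, 1, .inr 6)], [(0, 1, .inr 7)], [(0, 1, .inr 8)], [(0, 1, .inr 9)], [(0, 1, .inr 10)], [(0, 1, .inr 11)], [(0, 1, .inr 12), (1, 1, .inr 7)], [(0, 1, .inr 13), (1, 1, .inr 8)], [(0, 1, .inr 14)], [(0, 1, .inr 15), (1, -1, .inr 10)], [(0, 1, .inr 16), (1, -1, .inr 11)], [(0, 1, .inr 17), (1, -1, .inl 1), (1, -1, .inl 2), (1, -1, .inl 3), (2, -1, .inr 6)], [(0, 1, .inr 18)], [(0, 1, .inr 19)], [(0, 1, .inr 20)], [(0, 1, .inr 21)], [(0, 1, .inr 22), (1, 1, .inr 18)],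 [(0, 1, .inr 23), (1, 1, .inr 19)]], [[(0, 1, .inl 0), (1, -1, .inr 7)], [(0, 1, .inl 1), (1, 1, .inr 7)], [(0, 1, .inl 2), (1, 1, .inr 7)], [(0, 1, .inl 3), (1, -1, .inr 7)], [(0, 1, .inr 0)], [(0, 1, .inr 1)], [(0, 1, .inr 2)], [(0, 1, .inr 3), (1, 1, .inr 0)], [(0, 1, .inr 4)], [(0, 1, .inr 5), (1, -1, .inr 2)], [(0, 1, .inr 6)], [(0, 1, .inr 7)], [(0, 1, .inr 8)], [(0, 1, .inr 9)], [(0, 1, .inr 10)], [(0, 1, .inr 11), (1, 1, .inr 6)], [(0, 1, .inr 12)], [(0, 1, .inr 13), (1, 1, .inr 9)], [(0, 1, .inr 14), (1, -1, .inr 10)], [(0, 1, .inr 15)], [(0, 1, .inr 16), (1, -1, .inl 1), (1, -1, .inl 2), (2, -1, .inr 7)], [(0, 1, .inr 17), (1, -1, .inr 12)], [(0, 1, .inr 18)], [(0, 1, .inr 19)], [(0, 1, .inr 20)], [(0, 1, .inr 21), (1, 1, .inr 18)], [(0, 1, .inr 22)], [(0, 1, .inr 23), (1, -1, .inr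 20)]]]

def modelXD4c4 : List (List (List (ℕ × ℤ × (Fin 4 ⊕ Fin 24)))) :=
  [[[(0, 1, .inl 0), (1, -1, .inr 8)], [(0, 1, .inl 1), (1, 1, .inr 8)], [(0, 1, .inl 2), (1, -1, .inr 8)], [(0, 1, .inl 3), (1, 1, .inr 8)], [(0, 1, .inr 0)], [(0, 1, .inr 1)], [(0, 1, .inr 2), (1, 1, .inr 0)], [(0, 1, .inr 3)], [(0, 1, .inr 4)], [(0, 1, .inr 5), (1, -1, .inr 3)], [(0, 1, .inr 6)], [(0, 1, .inr 7)], [(0, 1, .inr 8)], [(0, 1, .inr 9)], [(0, 1, .inr 10), (1, 1, .inr 6)], [(0, 1, .inr 11)], [(0, 1, .inr 12), (1, 1, .inr 9)], [(0, 1, .inr 13)], [(0, 1, .inr 14), (1, -1, .inr 11)], [(0, 1, .inr 15), (1, -1, .inl 1), (1, -1, .inl 3), (2, -1, .inr 8)], [(0, 1, .inr 16)], [(0, 1, .inr 17), (1, -1, .inr 13)], [(0, 1, .inr 18)], [(0, 1, .inr 19)], [(0, 1, .inr 20), (1, 1, .inr 18)], [(0, 1, .inr 21)], [(0, 1, .inr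 22)], [(0, 1, .inr 23), (1, -1, .inr 21)]], [[(0, 1, .inl 0), (1, -1, .inr 9)], [(0, 1, .inl 1), (1, 2, .inr 9)], [(0, 1, .inl 2), (1, -1, .inr 9)], [(0, 1, .inl 3), (1, -1, .inr 9)], [(0, 1, .inr 0)], [(0, 1, .inr 1), (1, -1, .inr 0)], [(0, 1, .inr 2)], [(0, 1, .inr 3)], [(0, 1, .inr 4)], [(0, 1, .inr 5), (1, -1, .inr 4)], [(0, 1, .inr 6)], [(0, 1, .inr 7)], [(0, 1, .inr 8)], [(0, 1, .inr 9)], [(0, 1, .inr 10), (1, 1, .inr 7)], [(0, 1, .inr 11), (1, 1, .inr 8)], [(0, 1, .inr 12)], [(0, 1, .inr 13)], [(0, 1, .inr 14), (1, -1, .inl 1), (2, -1, .inr 9)], [(0, 1, .inr 15), (1, -1, .inr 12)], [(0, 1, .inr 16), (1, -1, .inr 13)], [(0, 1, .inr 17)], [(0, 1, .inr 18)], [(0, 1, .inr 19), (1, 1, .inr 18)], [(0, 1, .inr 20)], [(0, 1, .inr 21)], [(0, 1, .inr 22)], [(0, 1, .inr 23), (1, 1, .inr 22)]]]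

def modelXD4c5 : List (List (List (ℕ × ℤ × (Fin 4 ⊕ Fin 24)))) :=
  [[[(0, 1, .inl 0)], [(0, 1, .inl 1), (1, -1, .inr 10)], [(0, 1, .inl 2), (1, 2, .inr 10)], [(0, 1, .inl 3)], [(0, 1, .inr 0)], [(0, 1, .inr 1)], [(0, 1, .inr 2)], [(0, 1, .inr 3), (1, -1, .inr 1)], [(0, 1, .inr 4), (1, -1, .inr 2)], [(0, 1, .inr 5)], [(0, 1, .inr 6)], [(0, 1, .inr 7)], [(0, 1, .inr 8), (1, -1, .inr 6)], [(0, 1, .inr 9), (1, -1, .inr 7)], [(0, 1, .inr 10)], [(0, 1, .inr 11)], [(0, 1, .inr 12)], [(0, 1, .inr 13), (1, -1, .inl 2), (2, -1, .inr 10)], [(0, 1, .inr 14)], [(0, 1, .inr 15)], [(0, 1, .inr 16), (1, 1, .inr 14)], [(0, 1, .inr 17), (1, 1, .inr 15)], [(0, 1, .inr 18)], [(0, 1, .inr 19)], [(0, 1, .inr 20)], [(0, 1, .inr 21), (1, 1, .inr 19)], [(0, 1, .inr 22), (1, 1, .inr 20)], [(0, 1, .inr 23)]], [[(0,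 1, .inl 0)], [(0, 1, .inl 1), (1, -1, .inr 11)], [(0, 1, .inl 2)], [(0, 1, .inl 3), (1, 2, .inr 11)], [(0, 1, .inr 0)], [(0, 1, .inr 1)], [(0, 1, .inr 2), (1, -1, .inr 1)], [(0, 1, .inr 3)], [(0, 1, .inr 4), (1, -1, .inr 3)], [(0, 1, .inr 5)], [(0, 1, .inr 6)], [(0, 1, .inr 7), (1, -1, .inr 6)], [(0, 1, .inr 8)], [(0, 1, .inr 9), (1, -1, .inr 8)], [(0, 1, .inr 10)], [(0, 1, .inr 11)], [(0, 1, .inr 12), (1, -1, .inl 3), (2, -1, .inr 11)], [(0, 1, .inr 13)], [(0, 1, .inr 14)], [(0, 1, .inr 15), (1, 1, .inr 14)], [(0, 1, .inr 16)], [(0, 1, .inr 17), (1, 1, .inr 16)], [(0, 1, .inr 18)], [(0, 1, .inr 19)], [(0, 1, .inr 20), (1, 1, .inr 19)], [(0, 1, .inr 21)], [(0, 1, .inr 22), (1, 1, .inr 21)], [(0, 1, .inr 23)]]]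

def modelXD4c6 : List (List (List (ℕ × ℤ × (Fin 4 ⊕ Fin 24)))) :=
  [[[(0, 1, .inl 0)], [(0, 1, .inl 1), (1, 1, .inr 12)], [(0, 1, .inl 2)], [(0, 1, .inl 3), (1, -2, .inr 12)], [(0, 1, .inr 0)], [(0, 1, .inr 1), (1, -1, .inr 2)], [(0, 1, .inr 2)], [(0, 1, .inr 3), (1, -1, .inr 4)], [(0, 1, .inr 4)], [(0, 1, .inr 5)], [(0, 1, .inr 6), (1, -1, .inr 7)], [(0, 1, .inr 7)], [(0, 1, .inr 8), (1, -1, .inr 9)], [(0, 1, .inr 9)], [(0, 1, .inr 10)], [(0, 1, .inr 11), (1, 1, .inl 3), (2, -1, .inr 12)], [(0, 1, .inr 12)], [(0, 1, .inr 13)], [(0, 1, .inr 14), (1, 1, .inr 15)], [(0, 1, .inr 15)], [(0, 1, .inr 16), (1, 1, .inr 17)], [(0, 1, .inr 17)], [(0, 1, .inr 18)], [(0, 1, .inr 19), (1, 1, .inr 20)], [(0, 1, .inr 20)], [(0, 1, .inr 21), (1, 1, .inr 22)], [(0, 1, .inr 22)], [(0, 1, .inr 23)]], [[(0, 1,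 .inl 0)], [(0, 1, .inl 1), (1, 1, .inr 13)], [(0, 1, .inl 2), (1, -2, .inr 13)], [(0, 1, .inl 3)], [(0, 1, .inr 0)], [(0, 1, .inr 1), (1, -1, .inr 3)], [(0, 1, .inr 2), (1, -1, .inr 4)], [(0, 1, .inr 3)], [(0, 1, .inr 4)], [(0, 1, .inr 5)], [(0, 1, .inr 6), (1, -1, .inr 8)], [(0, 1, .inr 7), (1, -1, .inr 9)], [(0, 1, .inr 8)], [(0, 1, .inr 9)], [(0, 1, .inr 10), (1, 1, .inl 2), (2, -1, .inr 13)], [(0, 1, .inr 11)], [(0, 1, .inr 12)], [(0, 1, .inr 13)], [(0, 1, .inr 14), (1, 1, .inr 16)], [(0, 1, .inr 15), (1, 1, .inr 17)], [(0, 1, .inr 16)], [(0, 1, .inr 17)], [(0, 1, .inr 18)], [(0, 1, .inr 19), (1, 1, .inr 21)], [(0, 1, .inr 20), (1, 1, .inr 22)], [(0, 1, .inr 21)], [(0, 1, .inr 22)], [(0, 1, .inr 23)]]]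

def modelXD4c7 : List (List (List (ℕ × ℤ × (Fin 4 ⊕ Fin 24)))) :=
  [[[(0, 1, .inl 0), (1, 1, .inr 14)], [(0, 1, .inl 1), (1, -2, .inr 14)], [(0, 1, .inl 2), (1, 1, .inr 14)], [(0, 1, .inl 3), (1, 1, .inr 14)], [(0, 1, .inr 0), (1, -1, .inr 1)], [(0, 1, .inr 1)], [(0, 1, .inr 2)], [(0, 1, .inr 3)], [(0, 1, .inr 4), (1, -1, .inr 5)], [(0, 1, .inr 5)], [(0, 1, .inr 6)], [(0, 1, .inr 7), (1, 1, .inr 10)], [(0, 1, .inr 8), (1, 1, .inr 11)], [(0, 1, .inr 9), (1, 1, .inl 1), (2, -1, .inr 14)], [(0, 1, .inr 10)], [(0, 1, .inr 11)], [(0, 1, .inr 12), (1, -1, .inr 15)], [(0, 1, .inr 13), (1, -1, .inr 16)], [(0, 1, .inr 14)], [(0, 1, .inr 15)], [(0, 1, .inr 16)], [(0, 1, .inr 17)], [(0, 1, .inr 18), (1, 1, .inr 19)], [(0, 1, .inr 19)], [(0, 1, .inr 20)], [(0, 1, .inr 21)], [(0, 1, .inr 22), (1, 1, .inr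 23)], [(0, 1, .inr 23)]], [[(0, 1, .inl 0), (1, 1, .inr 15)], [(0, 1, .inl 1), (1, -1, .inr 15)], [(0, 1, .inl 2), (1, 1, .inr 15)], [(0, 1, .inl 3), (1, -1, .inr 15)], [(0, 1, .inr 0), (1, 1, .inr 2)], [(0, 1, .inr 1)], [(0, 1, .inr 2)], [(0, 1, .inr 3), (1, -1, .inr 5)], [(0, 1, .inr 4)], [(0, 1, .inr 5)], [(0, 1, .inr 6), (1, 1, .inr 10)], [(0, 1, .inr 7)], [(0, 1, .inr 8), (1, 1, .inl 1), (1, 1, .inl 3), (2, -1, .inr 15)], [(0, 1, .inr 9), (1, 1, .inr 12)], [(0, 1, .inr 10)], [(0, 1, .inr 11), (1, -1, .inr 14)], [(0, 1, .inr 12)], [(0, 1, .inr 13), (1, -1, .inr 17)], [(0, 1, .inr 14)], [(0, 1, .inr 15)], [(0, 1, .inr 16)], [(0, 1, .inr 17)], [(0, 1, .inr 18), (1, 1, .inr 20)], [(0, 1, .inr 19)], [(0, 1, .inr 20)], [(0, 1, .inr 21), (1, -1, .inr 23)], [(0, 1, .inr 22)], [(0, 1, .inr 23)]]]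

def modelXD4c8 : List (List (List (ℕ × ℤ × (Fin 4 ⊕ Fin 24)))) :=
  [[[(0, 1, .inl 0), (1, 1, .inr 16)], [(0, 1, .inl 1), (1, -1, .inr 16)], [(0, 1, .inl 2), (1, -1, .inr 16)], [(0, 1, .inl 3), (1, 1, .inr 16)], [(0, 1, .inr 0), (1, 1, .inr 3)], [(0, 1, .inr 1)], [(0, 1, .inr 2), (1, -1, .inr 5)], [(0, 1, .inr 3)], [(0, 1, .inr 4)], [(0, 1, .inr 5)], [(0, 1, .inr 6), (1, 1, .inr 11)], [(0, 1, .inr 7), (1, 1, .inl 1), (1, 1, .inl 2), (2, -1, .inr 16)], [(0, 1, .inr 8)], [(0, 1, .inr 9), (1, 1, .inr 13)], [(0, 1, .inr 10), (1, -1, .inr 14)], [(0, 1, .inr 11)], [(0, 1, .inr 12), (1, -1, .inr 17)], [(0, 1, .inr 13)], [(0, 1, .inr 14)], [(0, 1, .inr 15)], [(0, 1, .inr 16)], [(0, 1, .inr 17)], [(0, 1, .inr 18), (1, 1, .inr 21)], [(0, 1, .inr 19)], [(0, 1, .inr 20), (1, -1, .inr 23)], [(0, 1, .inr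 21)], [(0, 1, .inr 22)], [(0, 1, .inr 23)]], [[(0, 1, .inl 0), (1, 1, .inr 17)], [(0, 1, .inl 1)], [(0, 1, .inl 2), (1, -1, .inr 17)], [(0, 1, .inl 3), (1, -1, .inr 17)], [(0, 1, .inr 0), (1, -1, .inr 4)], [(0, 1, .inr 1), (1, -1, .inr 5)], [(0, 1, .inr 2)], [(0, 1, .inr 3)], [(0, 1, .inr 4)], [(0, 1, .inr 5)], [(0, 1, .inr 6), (1, 1, .inl 1), (1, 1, .inl 2), (1, 1, .inl 3), (2, -1, .inr 17)], [(0, 1, .inr 7), (1, 1, .inr 12)], [(0, 1, .inr 8), (1, 1, .inr 13)], [(0, 1, .inr 9)], [(0, 1, .inr 10), (1, -1, .inr 15)], [(0, 1, .inr 11), (1, -1, .inr 16)], [(0, 1, .inr 12)], [(0, 1, .inr 13)], [(0, 1, .inr 14)], [(0, 1, .inr 15)], [(0, 1, .inr 16)], [(0, 1, .inr 17)], [(0, 1, .inr 18), (1, 1, .inr 22)], [(0, 1, .inr 19), (1, 1, .inr 23)], [(0, 1, .inr 20)], [(0, 1, .inr 21)], [(0, 1, .inr 22)],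 [(0, 1, .inr 23)]]]

def modelXD4c9 : List (List (List (ℕ × ℤ × (Fin 4 ⊕ Fin 24)))) :=
  [[[(0, 1, .inl 0), (1, -2, .inr 18)], [(0, 1, .inl 1), (1, 1, .inr 18)], [(0, 1, .inl 2)], [(0, 1, .inl 3)], [(0, 1, .inr 0)], [(0, 1, .inr 1), (1, 1, .inr 6)], [(0, 1, .inr 2), (1, 1, .inr 7)], [(0, 1, .inr 3), (1, 1, .inr 8)], [(0, 1, .inr 4), (1, 1, .inr 9)], [(0, 1, .inr 5), (1, 1, .inl 0), (2, -1, .inr 18)], [(0, 1, .inr 6)], [(0, 1, .inr 7)], [(0, 1, .inr 8)], [(0, 1, .inr 9)], [(0, 1, .inr 10)], [(0, 1, .inr 11)], [(0, 1, .inr 12)], [(0, 1, .inr 13)], [(0, 1, .inr 14), (1, -1, .inr 19)], [(0, 1, .inr 15), (1, -1, .inr 20)], [(0, 1, .inr 16), (1, -1, .inr 21)], [(0, 1, .inr 17), (1, -1, .inr 22)], [(0, 1, .inr 18)], [(0, 1, .inr 19)], [(0, 1, .inr 20)], [(0, 1, .inr 21)], [(0, 1, .inr 22)], [(0, 1,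 .inr 23)]], [[(0, 1, .inl 0), (1, -1, .inr 19)], [(0, 1, .inl 1), (1, -1, .inr 19)], [(0, 1, .inl 2), (1, 1, .inr 19)], [(0, 1, .inl 3), (1, 1, .inr 19)], [(0, 1, .inr 0), (1, 1, .inr 6)], [(0, 1, .inr 1)], [(0, 1, .inr 2), (1, 1, .inr 10)], [(0, 1, .inr 3), (1, 1, .inr 11)], [(0, 1, .inr 4), (1, 1, .inl 0), (1, 1, .inl 1), (2, -1, .inr 19)], [(0, 1, .inr 5), (1, 1, .inr 14)], [(0, 1, .inr 6)], [(0, 1, .inr 7)], [(0, 1, .inr 8)], [(0, 1, .inr 9), (1, -1, .inr 18)], [(0, 1, .inr 10)], [(0, 1, .inr 11)], [(0, 1, .inr 12), (1, -1, .inr 20)], [(0, 1, .inr 13), (1, -1, .inr 21)], [(0, 1, .inr 14)], [(0, 1, .inr 15)], [(0, 1, .inr 16)], [(0, 1, .inr 17), (1, -1, .inr 23)], [(0, 1, .inr 18)], [(0, 1, .inr 19)], [(0, 1, .inr 20)], [(0, 1, .inr 21)], [(0, 1, .inr 22)], [(0, 1, .inr 23)]]]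

def modelXD4c10 : List (List (List (ℕ × ℤ × (Fin 4 ⊕ Fin 24)))) :=
  [[[(0, 1, .inl 0), (1, -1, .inr 20)], [(0, 1, .inl 1)], [(0, 1, .inl 2), (1, 1, .inr 20)], [(0, 1, .inl 3), (1, -1, .inr 20)], [(0, 1, .inr 0), (1, -1, .inr 7)], [(0, 1, .inr 1), (1, 1, .inr 10)], [(0, 1, .inr 2)], [(0, 1, .inr 3), (1, 1, .inl 0), (1, 1, .inl 1), (1, 1, .inl 3), (2, -1, .inr 20)], [(0, 1, .inr 4), (1, 1, .inr 12)], [(0, 1, .inr 5), (1, 1, .inr 15)], [(0, 1, .inr 6)], [(0, 1, .inr 7)], [(0, 1, .inr 8), (1, -1, .inr 18)], [(0, 1, .inr 9)], [(0, 1, .inr 10)], [(0, 1, .inr 11), (1, -1, .inr 19)], [(0, 1, .inr 12)], [(0, 1, .inr 13), (1, -1, .inr 22)], [(0, 1, .inr 14)], [(0, 1, .inr 15)], [(0, 1, .inr 16), (1, 1, .inr 23)], [(0, 1, .inr 17)], [(0, 1, .inr 18)], [(0, 1, .inr 19)], [(0, 1, .inr 20)], [(0, 1, .inr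 21)], [(0, 1, .inr 22)], [(0, 1, .inr 23)]], [[(0, 1, .inl 0), (1, -1, .inr 21)], [(0, 1, .inl 1)], [(0, 1, .inl 2), (1, -1, .inr 21)], [(0, 1, .inl 3), (1, 1, .inr 21)], [(0, 1, .inr 0), (1, -1, .inr 8)], [(0, 1, .inr 1), (1, 1, .inr 11)], [(0, 1, .inr 2), (1, 1, .inl 0), (1, 1, .inl 1), (1, 1, .inl 2), (2, -1, .inr 21)], [(0, 1, .inr 3)], [(0, 1, .inr 4), (1, 1, .inr 13)], [(0, 1, .inr 5), (1, 1, .inr 16)], [(0, 1, .inr 6)], [(0, 1, .inr 7), (1, -1, .inr 18)], [(0, 1, .inr 8)], [(0, 1, .inr 9)], [(0, 1, .inr 10), (1, -1, .inr 19)], [(0, 1, .inr 11)], [(0, 1, .inr 12), (1, -1, .inr 22)], [(0, 1, .inr 13)], [(0, 1, .inr 14)], [(0, 1, .inr 15), (1, 1, .inr 23)], [(0, 1, .inr 16)], [(0, 1, .inr 17)], [(0, 1, .inr 18)], [(0, 1, .inr 19)], [(0, 1, .inr 20)], [(0, 1, .inr 21)], [(0, 1, .inr 22)],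 [(0, 1, .inr 23)]]]

def modelXD4c11 : List (List (List (ℕ × ℤ × (Fin 4 ⊕ Fin 24)))) :=
  [[[(0, 1, .inl 0), (1, -1, .inr 22)], [(0, 1, .inl 1), (1, 1, .inr 22)], [(0, 1, .inl 2), (1, -1, .inr 22)], [(0, 1, .inl 3), (1, -1, .inr 22)], [(0, 1, .inr 0), (1, 1, .inr 9)], [(0, 1, .inr 1), (1, 1, .inl 0), (1, 1, .inl 1), (1, 1, .inl 2), (1, 1, .inl 3), (2, -1, .inr 22)], [(0, 1, .inr 2), (1, 1, .inr 12)], [(0, 1, .inr 3), (1, 1, .inr 13)], [(0, 1, .inr 4)], [(0, 1, .inr 5), (1, 1, .inr 17)], [(0, 1, .inr 6), (1, -1, .inr 18)], [(0, 1, .inr 7)], [(0, 1, .inr 8)], [(0, 1, .inr 9)], [(0, 1, .inr 10), (1, -1, .inr 20)], [(0, 1, .inr 11), (1, -1, .inr 21)], [(0, 1, .inr 12)], [(0, 1, .inr 13)], [(0, 1, .inr 14), (1, -1, .inr 23)], [(0, 1, .inr 15)], [(0, 1, .inr 16)], [(0, 1, .inr 17)], [(0, 1, .inr 18)],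 [(0, 1, .inr 19)], [(0, 1, .inr 20)], [(0, 1, .inr 21)], [(0, 1, .inr 22)], [(0, 1, .inr 23)]], [[(0, 1, .inl 0)], [(0, 1, .inl 1), (1, -1, .inr 23)], [(0, 1, .inl 2)], [(0, 1, .inl 3)], [(0, 1, .inr 0), (1, 1, .inl 0), (1, 2, .inl 1), (1, 1, .inl 2), (1, 1, .inl 3), (2, -1, .inr 23)], [(0, 1, .inr 1), (1, 1, .inr 14)], [(0, 1, .inr 2), (1, -1, .inr 15)], [(0, 1, .inr 3), (1, -1, .inr 16)], [(0, 1, .inr 4), (1, 1, .inr 17)], [(0, 1, .inr 5)], [(0, 1, .inr 6), (1, -1, .inr 19)], [(0, 1, .inr 7), (1, 1, .inr 20)], [(0, 1, .inr 8), (1, 1, .inr 21)], [(0, 1, .inr 9), (1, -1, .inr 22)], [(0, 1, .inr 10)], [(0, 1, .inr 11)], [(0, 1, .inr 12)], [(0, 1, .inr 13)], [(0, 1, .inr 14)], [(0, 1, .inr 15)], [(0, 1, .inr 16)], [(0, 1, .inr 17)], [(0, 1, .inr 18)], [(0, 1, .inr 19)], [(0, 1, .inr 20)], [(0,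 1, .inr 21)], [(0, 1, .inr 22)], [(0, 1, .inr 23)]]]

def modelXD4 : List (List (List (ℕ × ℤ × (Fin 4 ⊕ Fin 24)))) :=
  modelXD4c0 ++ modelXD4c1 ++ modelXD4c2 ++ modelXD4c3 ++ modelXD4c4 ++ modelXD4c5 ++ modelXD4c6 ++ modelXD4c7 ++ modelXD4c8 ++ modelXD4c9 ++ modelXD4c10 ++ modelXD4c11

def modelLamD4c0 : List (List (ℤ × (Fin 4 ⊕ Fin 24)) × ℤ) :=
  [([], 0), ([(1, .inr 23)], 0), ([(-1, .inr 22)], 0), ([(1, .inr 20)], 0), ([(-1, .inl 0)], 0), ([(1, .inr 18)], 0), ([(1, .inr 19)], 0), ([(1, .inr 21)], 0), ([(-1, .inr 23)], 0), ([], 0), ([(-1, .inr 17)], 0), ([(1, .inr 15)], 0), ([(1, .inr 5)], 0), ([(1, .inl 0), (-1, .inl 1)], 0), ([(1, .inr 14)], 0), ([(1, .inr 16)], 0)]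

def modelLamD4c1 : List (List (ℤ × (Fin 4 ⊕ Fin 24)) × ℤ) :=
  [([(1, .inr 22)], 0), ([(1, .inr 17)], 0), ([], 0), ([(1, .inr 12)], 0), ([(1, .inr 4)], 0), ([(1, .inr 9)], 0), ([(1, .inl 1), (-1, .inl 2), (-1, .inl 3)], -1), ([(1, .inr 13)], 0), ([(-1, .inr 20)], 0), ([(-1, .inr 15)], 0), ([(-1, .inr 12)], 0), ([], 0), ([(1, .inr 2)], 0), ([(1, .inr 7)], 0), ([(1, .inr 10)], 0), ([(1, .inl 2), (-1, .inl 3)], 0)]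

def modelLamD4c2 : List (List (ℤ × (Fin 4 ⊕ Fin 24)) × ℤ) :=
  [([(1, .inl 0)], 0), ([(-1, .inr 5)], 0), ([(-1, .inr 4)], 0), ([(-1, .inr 2)], 0), ([], 0), ([(-1, .inr 0)], 0), ([(1, .inr 1)], 0), ([(-1, .inr 3)], 0), ([(-1, .inr 18)], 0), ([(-1, .inl 0), (1, .inl 1)], 0), ([(-1, .inr 9)], 0), ([(-1, .inr 7)], 0), ([(1, .inr 0)], 0), ([], 0), ([(1, .inr 6)], 0), ([(-1, .inr 8)], 0)]

def modelLamD4c3 : List (List (ℤ × (Fin 4 ⊕ Fin 24)) × ℤ) :=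
  [([(-1, .inr 19)], 0), ([(-1, .inr 14)], 0), ([(-1, .inl 1), (1, .inl 2), (1, .inl 3)], 1), ([(-1, .inr 10)], 0), ([(-1, .inr 1)], 0), ([(-1, .inr 6)], 0), ([], 0), ([(-1, .inr 11)], 0), ([(-1, .inr 21)], 0), ([(-1, .inr 16)], 0), ([(-1, .inr 13)], 0), ([(-1, .inl 2), (1, .inl 3)], 0), ([(1, .inr 3)], 0), ([(1, .inr 8)], 0), ([(1, .inr 11)], 0), ([], 0)]

def modelLamD4 : List (List (ℤ × (Fin 4 ⊕ Fin 24)) × ℤ) :=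
  modelLamD4c0 ++ modelLamD4c1 ++ modelLamD4c2 ++ modelLamD4c3

/-- Position of a coordinate. -/
def idxCodeD4 : (Fin 4 ⊕ Fin 24) → ℕ
  | .inl i => i
  | .inr r => 4 + r

/-- Position of a basis vector. -/
def ptCodeD4 : (Fin 4 ⊕ Fin 4) → ℕ
  | .inl i => i
  | .inr i => 4 + i

/-- The model. -/
def modelD4 : ModelData Cfsg.Lie.chevD4 (Fin 4 ⊕ Fin 4) where
  P a := modelPD4.getD (idxCodeD4 a) []
  s a := modelSD4.getD (idxCodeD4 a) 0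
  T a := modelTD4.getD (idxCodeD4 a) []
  K a b := (modelKD4.getD (idxCodeD4 a) []).getD (idxCodeD4 b) 0
  root r := modelRootD4.getD r.val (.inl 0, .inl 0, 0)
  xterm r b := (modelXD4.getD r.val []).getD (idxCodeD4 b) []
  lam i j := modelLamD4.getD (ptCodeD4 i * 8 + ptCodeD4 j) ([], 0)

theorem modelD4_ok : ModelOk frameD4 modelD4 where
  short := by decide +kernel
  pSym := by decide +kernel
  one := by decide +kernel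
  root_ok := by decide +kernel
  xterm_deg := by decide +kernel
  xterm_eq := by decide +kernel
  defect_sym := by decide +kernel
  defect_const := by decide +kernel
  cover := by decide +kernel
  minor := by decide +kernel
  single := by decide +kernel
  two := by decide +kernel
  partners := by decide +kernel
  common := by decide +kernel

end CfsgLib.ChevClassical
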