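import Cfsg.Prelude.Def_Classical

/-!
# Orthogonal groups of split quadratic forms over an arbitrary field

A `Frame` on an index type is an involution `mate` with at most one fixed point, together with a
choice of one index (`first`) in each pair.  The form is `∑_{p first} v_p v_{mate p}`; this covers
`∑ xᵢyᵢ` and `x₀² + ∑ xᵢyᵢ` over every field.  `eichMap p w` is the Eichler transformation of the
basis vector `p` and `w`.
-/

set_option autoImplicit false
set_option linter.unusedSectionVars false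

namespace CfsgLib.ChevClassical

open Matrix

/-- A split frame. -/
structure Frame (ι : Type) where
  mate : ι → ι
  first : ι → Bool
  mate_mate : ∀ p, mate (mate p) = p
  first_mate : ∀ p, mate p ≠ p → first (mate p) = !first p
  first_fixed : ∀ p, mate p = p → first p = true
  fixed_unique : ∀ p q, mate p = p → mate q = q → p = q

variable {ι : Type} (Φ : Frame ι) [Fintype ι] [DecidableEq ι] {F : Type*} [Field F]

/-- The quadratic form of a frame. -/
def Frame.Q (F : Type*) [Field F] (v : ι → F) : F :=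
  ∑ p, if Φ.first p then v p * v (Φ.mate p) else 0

/-- The polar form of a frame. -/
def Frame.B (u w : ι → F) : F :=
  ∑ p, if Φ.first p then u p * w (Φ.mate p) + u (Φ.mate p) * w p else 0

theorem Frame.Q_add (u w : ι → F) : Φ.Q F (u + w) = Φ.Q F u + Φ.Q F w + Φ.B u w := by
  simp only [Frame.Q, Frame.B, ← Finset.sum_add_distrib]
  refine Finset.sum_congr rfl fun p _ => ?_
  split
  · simp only [Pi.add_apply]; ring
  · simp

theorem Frame.Q_smul (c : F) (u : ι → F) : Φ.Q F (c • u) = c * c * Φ.Q F u := by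
  simp only [Frame.Q, Finset.mul_sum]
  refine Finset.sum_congr rfl fun p _ => ?_
  split
  · simp only [Pi.smul_apply, smul_eq_mul]; ring
  · simp

theorem Frame.B_comm (u w : ι → F) : Φ.B u w = Φ.B w u := by
  simp only [Frame.B]
  refine Finset.sum_congr rfl fun p _ => ?_
  split <;> ring

theorem Frame.B_add_left (u u' w : ι → F) : Φ.B (u + u') w = Φ.B u w + Φ.B u' w := by
  simp only [Frame.B, ← Finset.sum_add_distrib]
  refine Finset.sum_congr rfl fun p _ => ?_
  split
  · simp only [Pi.add_apply]; ring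
  · simp

theorem Frame.B_smul_left (c : F) (u w : ι → F) : Φ.B (c • u) w = c * Φ.B u w := by
  simp only [Frame.B, Finset.mul_sum]
  refine Finset.sum_congr rfl fun p _ => ?_
  split
  · simp only [Pi.smul_apply, smul_eq_mul]; ring
  · simp

theorem Frame.B_add_right (u w w' : ι → F) : Φ.B u (w + w') = Φ.B u w + Φ.B u w' := by
  rw [Φ.B_comm, Φ.B_add_left, Φ.B_comm w, Φ.B_comm w']

theorem Frame.B_smul_right (c : F) (u w : ι → F) : Φ.B u (c • w) = c * Φ.B u w := by
  rw [Φ.B_comm, Φ.B_smul_left, Φ.B_comm w]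

theorem Frame.B_self (u : ι → F) : Φ.B u u = 2 * Φ.Q F u := by
  simp only [Frame.B, Frame.Q, Finset.mul_sum]
  refine Finset.sum_congr rfl fun p _ => ?_
  split <;> ring

/-- A basis vector. -/
abbrev dlt (p : ι) : ι → F := Pi.single p 1

theorem Frame.mate_ne {p : ι} (hp : Φ.mate p ≠ p) : Φ.mate (Φ.mate p) ≠ Φ.mate p := by
  rw [Φ.mate_mate]; exact Ne.symm hp

theorem Frame.Q_dlt {p : ι} (hp : Φ.mate p ≠ p) : Φ.Q F (dlt p) = 0 := by
  refine Finset.sum_eq_zero fun q _ => ?_
  split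
  · rcases eq_or_ne q p with rfl | hq
    · simp [dlt, hp]
    · simp [dlt, hq]
  · rfl

theorem Frame.Q_dlt_fixed {z : ι} (hz : Φ.mate z = z) : Φ.Q F (dlt z) = 1 := by
  rw [Frame.Q, Finset.sum_eq_single z]
  · simp [Φ.first_fixed z hz, dlt, hz]
  · intro q _ hq
    simp [dlt, hq]
  · simp

theorem Frame.B_dlt {p : ι} (hp : Φ.mate p ≠ p) (x : ι → F) :
    Φ.B (dlt p) x = x (Φ.mate p) := by
  rw [Frame.B]
  rcases hf : Φ.first p with _ | _
  · rw [Finset.sum_eq_single (Φ.mate p)]
    · simp [Φ.first_mate p hp, hf, dlt, hp, Φ.mate_mate]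
    · intro q _ hq
      split
      · next h =>
        have h1 : q ≠ p := fun e => by rw [e, hf] at h; exact Bool.noConfusion h
        have h2 : Φ.mate q ≠ p := fun e => hq (by rw [← e, Φ.mate_mate])
        simp [dlt, h1, h2]
      · rfl
    · simp
  · rw [Finset.sum_eq_single p]
    · simp [hf, dlt, hp]
    · intro q _ hq
      split
      · next h =>
        have h2 : Φ.mate q ≠ p := fun e => by
          have hqp : q = Φ.mate p := by rw [← e, Φ.mate_mate]
          rw [hqp, Φ.first_mate p hp, hf] at h; exact Bool.noConfusion h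
        simp [dlt, hq, h2]
      · rfl
    · simp

theorem Frame.B_dlt_fixed {z : ι} (hz : Φ.mate z = z) (x : ι → F) :
    Φ.B (dlt z) x = 2 * x z := by
  rw [Frame.B, Finset.sum_eq_single z]
  · simp [Φ.first_fixed z hz, dlt, hz]; ring
  · intro q _ hq
    have h2 : Φ.mate q ≠ z := fun e => hq (by rw [← Φ.mate_mate q, e, hz])
    simp [dlt, hq, h2]
  · simp

/-- The Eichler transformation as a function. -/
def Frame.eichFun (p : ι) (w x : ι → F) : ι → F :=
  x + x (Φ.mate p) • w - (Φ.B w x + Φ.Q F w * x (Φ.mate p)) • dlt p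

/-- The isometry group of a frame. -/
abbrev Frame.O (F : Type*) [Field F] : Subgroup (GL ι F) := Cfsg.isometryGroup F (Φ.Q F)

/-- The action of an isometry on vectors. -/
def app {Φ : Frame ι} (g : Φ.O F) (x : ι → F) : ι → F :=
  ((g : GL ι F) : Matrix ι ι F) *ᵥ x

@[simp] theorem app_one (x : ι → F) : app (1 : Φ.O F) x = x := Matrix.one_mulVec x

@[simp] theorem app_mul (g h : Φ.O F) (x : ι → F) : app (g * h) x = app g (app h x) :=
  (Matrix.mulVec_mulVec x _ _).symm

theorem app_add (g : Φ.O F) (x y : ι → F) : app g (x + y) = app g x + app g y :=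
  Matrix.mulVec_add _ x y

theorem app_sub (g : Φ.O F) (x y : ι → F) : app g (x - y) = app g x - app g y :=
  Matrix.mulVec_sub _ x y

theorem app_smul (g : Φ.O F) (c : F) (x : ι → F) : app g (c • x) = c • app g x :=
  Matrix.mulVec_smul _ c x

theorem app_inv_app (g : Φ.O F) (x : ι → F) : app g⁻¹ (app g x) = x := by
  rw [← app_mul, inv_mul_cancel, app_one]

theorem app_ext {g h : Φ.O F} (H : ∀ x, app g x = app h x) : g = h :=
  Subtype.ext (Units.ext (Matrix.ext_iff_mulVec.mpr H))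

theorem Q_app (g : Φ.O F) (x : ι → F) : Φ.Q F (app g x) = Φ.Q F x := g.2 x x

theorem B_app (g : Φ.O F) (x y : ι → F) : Φ.B (app g x) (app g y) = Φ.B x y := by
  have h := Q_app Φ g (x + y)
  rw [app_add, Φ.Q_add, Φ.Q_add, Q_app, Q_app] at h
  simpa using h

theorem app_dlt (g : Φ.O F) (p q : ι) : app g (dlt p) q = ((g : GL ι F) : Matrix ι ι F) q p := by
  simp [app, dlt]

/-- The matrix of a linear map given as a function. -/
def funMatrix (f : (ι → F) → (ι → F)) : Matrix ι ι F := Matrix.of fun q p => f (dlt p) q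

theorem funMatrix_mulVec (f : (ι → F) → (ι → F)) (hadd : ∀ x y, f (x + y) = f x + f y)
    (hsmul : ∀ (c : F) x, f (c • x) = c • f x) (x : ι → F) : funMatrix f *ᵥ x = f x := by
  have hl : ∀ (s : Finset ι), f (∑ p ∈ s, x p • dlt p) = ∑ p ∈ s, x p • f (dlt p) := by
    intro s
    induction s using Finset.induction_on with
    | empty =>
      simpa using hsmul 0 0
    | insert a s ha ih => rw [Finset.sum_insert ha, Finset.sum_insert ha, hadd, hsmul, ih]
  have hx : x = ∑ p, x p • dlt p := pi_eq_sum_univ' x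
  conv_rhs => rw [hx, hl]
  ext q
  simp [funMatrix, Matrix.mulVec, dotProduct, mul_comm]

/-- An element of the orthogonal group from a linear isometric bijection. -/
def mkO (f g : (ι → F) → (ι → F)) (hadd : ∀ x y, f (x + y) = f x + f y)
    (hsmul : ∀ (c : F) x, f (c • x) = c • f x) (gadd : ∀ x y, g (x + y) = g x + g y)
    (gsmul : ∀ (c : F) x, g (c • x) = c • g x) (hfg : ∀ x, f (g x) = x) (hgf : ∀ x, g (f x) = x)
    (hQ : ∀ x, Φ.Q F (f x) = Φ.Q F x) : Φ.O F :=
  ⟨⟨funMatrix f, funMatrix g,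
      Matrix.ext_iff_mulVec.mpr fun x => by
        rw [← Matrix.mulVec_mulVec, funMatrix_mulVec g gadd gsmul, funMatrix_mulVec f hadd hsmul,
          hfg, Matrix.one_mulVec],
      Matrix.ext_iff_mulVec.mpr fun x => by
        rw [← Matrix.mulVec_mulVec, funMatrix_mulVec f hadd hsmul, funMatrix_mulVec g gadd gsmul,
          hgf, Matrix.one_mulVec]⟩,
    fun x _ => by
      show Φ.Q F (funMatrix f *ᵥ x) = _
      rw [funMatrix_mulVec f hadd hsmul, hQ]⟩

theorem app_mkO {f g : (ι → F) → (ι → F)} (hadd : ∀ x y, f (x + y) = f x + f y)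
    (hsmul : ∀ (c : F) x, f (c • x) = c • f x) (gadd : ∀ x y, g (x + y) = g x + g y)
    (gsmul : ∀ (c : F) x, g (c • x) = c • g x) (hfg : ∀ x, f (g x) = x) (hgf : ∀ x, g (f x) = x)
    (hQ : ∀ x, Φ.Q F (f x) = Φ.Q F x) (x : ι → F) :
    app (mkO Φ f g hadd hsmul gadd gsmul hfg hgf hQ) x = f x :=
  funMatrix_mulVec f hadd hsmul x

theorem eichFun_add (p : ι) (w x y : ι → F) :
    Φ.eichFun p w (x + y) = Φ.eichFun p w x + Φ.eichFun p w y := by
  simp only [Frame.eichFun, Φ.B_add_right, Pi.add_apply]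
  module

theorem eichFun_smul (p : ι) (w : ι → F) (c : F) (x : ι → F) :
    Φ.eichFun p w (c • x) = c • Φ.eichFun p w x := by
  simp only [Frame.eichFun, Φ.B_smul_right, Pi.smul_apply, smul_eq_mul]
  module

theorem eichFun_comp {p : ι} (hp : Φ.mate p ≠ p) {w w' : ι → F} (hw : w (Φ.mate p) = 0)
    (hw' : w' (Φ.mate p) = 0) (x : ι → F) :
    Φ.eichFun p w (Φ.eichFun p w' x) = Φ.eichFun p (w + w') x := by
  have hd : (dlt p : ι → F) (Φ.mate p) = 0 := by simp [dlt, hp]
  have h1 : Φ.B w (dlt p) = 0 := by rw [Φ.B_comm, Φ.B_dlt hp, hw]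
  simp only [Frame.eichFun, sub_eq_add_neg, ← neg_smul, Φ.B_add_right, Φ.B_smul_right,
    Φ.B_add_left, Φ.Q_add w w', Pi.add_apply, Pi.smul_apply, smul_eq_mul, hw', hd, h1]
  module

theorem eichFun_zero (p : ι) (x : ι → F) : Φ.eichFun p 0 x = x := by
  simp [Frame.eichFun, Frame.B, Frame.Q]

theorem Q_eichFun {p : ι} (hp : Φ.mate p ≠ p) {w : ι → F} (hw : w (Φ.mate p) = 0) (x : ι → F) :
    Φ.Q F (Φ.eichFun p w x) = Φ.Q F x := by
  have h1 : Φ.B w (dlt p) = 0 := by rw [Φ.B_comm, Φ.B_dlt hp, hw]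
  have h2 : Φ.B x (dlt p) = x (Φ.mate p) := by rw [Φ.B_comm, Φ.B_dlt hp]
  simp only [Frame.eichFun, sub_eq_add_neg, ← neg_smul, Φ.Q_add, Φ.Q_smul, Φ.B_add_left,
    Φ.B_smul_left, Φ.B_smul_right, Φ.Q_dlt hp, Φ.B_comm x w, h1, h2]
  ring

/-- The Eichler transformation in the isometry group. -/
def eichO {p : ι} (hp : Φ.mate p ≠ p) (w : ι → F) (hw : w (Φ.mate p) = 0) : Φ.O F :=
  mkO Φ (Φ.eichFun p w) (Φ.eichFun p (-w)) (eichFun_add Φ p w) (eichFun_smul Φ p w)
    (eichFun_add Φ p (-w)) (eichFun_smul Φ p (-w))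
    (fun x => by rw [eichFun_comp Φ hp hw (by simp [hw]), add_neg_cancel, eichFun_zero])
    (fun x => by rw [eichFun_comp Φ hp (by simp [hw]) hw, neg_add_cancel, eichFun_zero])
    (Q_eichFun Φ hp hw)

@[simp] theorem app_eichO {p : ι} (hp : Φ.mate p ≠ p) (w : ι → F) (hw : w (Φ.mate p) = 0)
    (x : ι → F) : app (eichO Φ hp w hw) x = Φ.eichFun p w x :=
  app_mkO Φ _ _ _ _ _ _ _ x

theorem eichO_mul {p : ι} (hp : Φ.mate p ≠ p) {w w' : ι → F} (hw : w (Φ.mate p) = 0)
    (hw' : w' (Φ.mate p) = 0) :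
    eichO Φ hp w hw * eichO Φ hp w' hw' = eichO Φ hp (w + w') (by simp [hw, hw']) :=
  app_ext Φ fun x => by simp [eichFun_comp Φ hp hw hw']

theorem eichO_smul_self {p : ι} (hp : Φ.mate p ≠ p) (t : F) :
    eichO Φ hp (t • dlt p) (by simp [dlt, hp]) = (1 : Φ.O F) := by
  refine app_ext Φ fun x => ?_
  simp only [app_eichO, app_one, Frame.eichFun, Φ.B_smul_left, Φ.B_dlt hp, Φ.Q_smul, Φ.Q_dlt hp]
  module

/-- Conjugation of an Eichler transformation by an isometry mapping a basis vector to a multiple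
of a basis vector. -/
theorem conj_eichO (g : Φ.O F) {p p' : ι} (hp : Φ.mate p ≠ p) (hp' : Φ.mate p' ≠ p') {c : F}
    (hg : app g (dlt p) = c • dlt p') (w : ι → F) (hw : w (Φ.mate p) = 0)
    (hw' : (c • app g w) (Φ.mate p') = 0) :
    g * eichO Φ hp w hw * g⁻¹ = eichO Φ hp' (c • app g w) hw' := by
  refine app_ext Φ fun x => ?_
  simp only [app_mul, app_eichO]
  obtain ⟨y, rfl⟩ : ∃ y, app g y = x := ⟨app g⁻¹ x, by rw [← app_mul, mul_inv_cancel, app_one]⟩
  rw [app_inv_app]
  have hcoord : y (Φ.mate p) = c * app g y (Φ.mate p') := by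
    rw [← Φ.B_dlt hp y, ← B_app Φ g, hg, Φ.B_smul_left, Φ.B_dlt hp']
  simp only [Frame.eichFun, app_add, app_sub, app_smul, hg, Φ.B_smul_left, Φ.Q_smul, B_app, Q_app,
    hcoord]
  module

end CfsgLib.ChevClassical
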