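import Cfsg.Agent.ChevClassical.Frame

/-!
# `Ω` of a split frame is generated by the root Eichler transformations, over every field

`commutator_O` : if there are two hyperbolic planes, and either the field has a third element or
there are three planes, the commutator subgroup of the orthogonal group is `rootSub`.
-/

set_option autoImplicit false
set_option linter.unusedSectionVars false
set_option linter.unusedSimpArgs false
set_option linter.unusedVariables false

namespace CfsgLib.ChevClassical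

open Matrix
open scoped commutatorElement

variable {ι : Type} (Φ : Frame ι) [Fintype ι] [DecidableEq ι] {F : Type*} [Field F]

/-- The root elements. -/
def rootSet (F : Type*) [Field F] : Set (Φ.O F) :=
  {g | ∃ (p q : ι) (hp : Φ.mate p ≠ p) (hq : q ≠ Φ.mate p) (_ : q ≠ p) (t : F),
    g = eichO Φ hp (t • dlt q) (by simp [dlt, hq.symm])}

/-- The subgroup generated by the root elements. -/
def rootSub (F : Type*) [Field F] : Subgroup (Φ.O F) := Subgroup.closure (rootSet Φ F)

theorem eich_mem_rootSub {p : ι} (hp : Φ.mate p ≠ p) (w : ι → F) (hw : w (Φ.mate p) = 0) :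
    eichO Φ hp w hw ∈ rootSub Φ F := by
  have key : ∀ s : Finset ι, p ∉ s → Φ.mate p ∉ s →
      ∀ h, eichO Φ hp (∑ q ∈ s, w q • dlt q) h ∈ rootSub Φ F := by
    intro s
    induction s using Finset.induction_on with
    | empty =>
      intro _ _ h
      have : eichO Φ hp (∑ q ∈ (∅ : Finset ι), w q • dlt q) h = (1 : Φ.O F) :=
        app_ext Φ fun x => by simp [eichFun_zero]
      rw [this]; exact one_mem _
    | insert a s ha ih =>
      intro h1 h2 h
      simp only [Finset.mem_insert, not_or] at h1 h2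
      have h3 : (w a • dlt a : ι → F) (Φ.mate p) = 0 := by simp [dlt, h2.1]
      have h4 : (∑ q ∈ s, w q • dlt q : ι → F) (Φ.mate p) = 0 := by
        simpa [Finset.sum_insert ha, dlt, h2.1] using h
      have e : eichO Φ hp (∑ q ∈ insert a s, w q • dlt q) h =
          eichO Φ hp _ h3 * eichO Φ hp _ h4 := by
        rw [eichO_mul Φ hp h3 h4]
        exact app_ext Φ fun x => by simp [Finset.sum_insert ha]
      rw [e]
      exact mul_mem (Subgroup.subset_closure
        ⟨p, a, hp, Ne.symm h2.1, Ne.symm h1.1, w a, rfl⟩) (ih h1.2 h2.2 h4)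
  have h3 : (w p • dlt p : ι → F) (Φ.mate p) = 0 := by simp [dlt, hp]
  have h4 : (∑ q ∈ (Finset.univ.erase p).erase (Φ.mate p), w q • dlt q : ι → F) (Φ.mate p) = 0 := by
    rw [Finset.sum_apply]
    refine Finset.sum_eq_zero fun i hi => ?_
    simp only [Finset.mem_erase] at hi
    simp [dlt, hi.1.symm]
  have e : eichO Φ hp w hw = eichO Φ hp _ h3 * eichO Φ hp _ h4 := by
    rw [eichO_mul Φ hp h3 h4]
    refine app_ext Φ fun x => ?_
    simp only [app_eichO]
    congr 1
    conv_lhs => rw [pi_eq_sum_univ' w]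
    rw [← Finset.add_sum_erase _ _ (Finset.mem_univ p),
      ← Finset.add_sum_erase _ _ (Finset.mem_erase.mpr ⟨hp, Finset.mem_univ (Φ.mate p)⟩), hw]
    simp [dlt]
  rw [e, eichO_smul_self, one_mul]
  exact key _ (by simp) (by simp) h4

/-- A signed permutation of coordinates preserving every pair. -/
structure MonData (F : Type*) [Field F] where
  σ : Equiv.Perm ι
  d : ι → F
  invol : ∀ q, σ (σ q) = q
  pair : ∀ q, (σ q = q ∧ σ (Φ.mate q) = Φ.mate q) ∨ (σ q = Φ.mate q ∧ σ (Φ.mate q) = q)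
  d_mul : ∀ q, d q * d (Φ.mate q) = 1

variable {Φ}

theorem MonData.d_ne (m : MonData Φ F) (q : ι) : m.d q ≠ 0 := left_ne_zero_of_mul_eq_one (m.d_mul q)

/-- The isometry of a signed permutation. -/
def MonData.toO (m : MonData Φ F) : Φ.O F :=
  mkO Φ (fun x q => m.d q * x (m.σ q)) (fun x q => (m.d (m.σ q))⁻¹ * x (m.σ q))
    (fun x y => funext fun q => mul_add _ _ _) (fun c x => funext fun q => mul_left_comm _ _ _)
    (fun x y => funext fun q => mul_add _ _ _) (fun c x => funext fun q => mul_left_comm _ _ _)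
    (fun x => funext fun q => by
      show m.d q * ((m.d (m.σ (m.σ q)))⁻¹ * x (m.σ (m.σ q))) = x q
      rw [m.invol, ← mul_assoc, mul_inv_cancel₀ (m.d_ne q), one_mul])
    (fun x => funext fun q => by
      show (m.d (m.σ q))⁻¹ * (m.d (m.σ q) * x (m.σ (m.σ q))) = x q
      rw [m.invol, ← mul_assoc, inv_mul_cancel₀ (m.d_ne _), one_mul])
    (fun x => Finset.sum_congr rfl fun q _ => by
      split
      · rcases m.pair q with ⟨h1, h2⟩ | ⟨h1, h2⟩ <;>
        · simp only []
          rw [h1, h2, show ∀ a b c d : F, a * b * (c * d) = a * c * (b * d) by intros; ring,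
            m.d_mul]
          ring
      · rfl)

@[simp] theorem MonData.app_toO (m : MonData Φ F) (x : ι → F) (q : ι) :
    app m.toO x q = m.d q * x (m.σ q) :=
  congrFun (app_mkO Φ _ _ _ _ _ _ _ x) q

theorem MonData.app_dlt' (m : MonData Φ F) (p : ι) :
    app m.toO (dlt p) = m.d (m.σ p) • dlt (m.σ p) := by
  funext q
  rw [m.app_toO, Pi.smul_apply, smul_eq_mul]
  rcases eq_or_ne q (m.σ p) with rfl | hq
  · simp [dlt, m.invol]
  · have : m.σ q ≠ p := fun e => hq (by rw [← e, m.invol])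
    simp [dlt, hq, this]

theorem MonData.mate_σ (m : MonData Φ F) (q : ι) : Φ.mate (m.σ q) = m.σ (Φ.mate q) := by
  rcases m.pair q with ⟨h1, h2⟩ | ⟨h1, h2⟩ <;> simp [h1, h2, Φ.mate_mate]

/-- The torus element of a hyperbolic pair. -/
def hData {p : ι} (hp : Φ.mate p ≠ p) (a : F) (ha : a ≠ 0) : MonData Φ F where
  σ := 1
  d q := if q = p then a else if q = Φ.mate p then a⁻¹ else 1
  invol _ := rfl
  pair _ := Or.inl ⟨rfl, rfl⟩
  d_mul q := by
    rcases eq_or_ne q p with rfl | h1
    · simp [hp, ha]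
    · rcases eq_or_ne q (Φ.mate p) with rfl | h2
      · simp [Φ.mate_mate, hp, ha]
      · have h3 : Φ.mate q ≠ p := fun e => h2 (by rw [← e, Φ.mate_mate])
        have h4 : Φ.mate q ≠ Φ.mate p := fun e => h1 (by rw [← Φ.mate_mate q, e, Φ.mate_mate])
        simp [h1, h2, h3, h4]

/-- The exchange of a hyperbolic pair. -/
def swapData {p : ι} (hp : Φ.mate p ≠ p) : MonData Φ F where
  σ := Equiv.swap p (Φ.mate p)
  d _ := 1
  invol q := Equiv.swap_apply_self _ _ q
  pair q := by
    rcases eq_or_ne q p with rfl | h1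
    · exact Or.inr ⟨by simp, by simp⟩
    · rcases eq_or_ne q (Φ.mate p) with rfl | h2
      · exact Or.inr ⟨by simp [Φ.mate_mate], by simp [Φ.mate_mate]⟩
      · have h3 : Φ.mate q ≠ p := fun e => h2 (by rw [← e, Φ.mate_mate])
        have h4 : Φ.mate q ≠ Φ.mate p := fun e => h1 (by rw [← Φ.mate_mate q, e, Φ.mate_mate])
        exact Or.inl ⟨Equiv.swap_apply_of_ne_of_ne h1 h2, Equiv.swap_apply_of_ne_of_ne h3 h4⟩
  d_mul _ := one_mul 1

/-- The sign change of the fixed index. -/
def signData {z : ι} (hz : Φ.mate z = z) : MonData Φ F where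
  σ := 1
  d q := if q = z then -1 else 1
  invol _ := rfl
  pair _ := Or.inl ⟨rfl, rfl⟩
  d_mul q := by
    rcases eq_or_ne q z with rfl | h1
    · simp [hz]
    · have : Φ.mate q ≠ z := fun e => h1 (by rw [← Φ.mate_mate q, e, hz])
      simp [h1, this]

variable (Φ)

/-- The monomial generators. -/
def monSet (F : Type*) [Field F] : Set (Φ.O F) :=
  {g | (∃ (p : ι) (hp : Φ.mate p ≠ p) (a : F) (ha : a ≠ 0), g = (hData hp a ha).toO) ∨
    (∃ (p : ι) (hp : Φ.mate p ≠ p), g = (swapData hp).toO) ∨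
    ∃ (z : ι) (hz : Φ.mate z = z), g = (signData hz).toO}

theorem rootSub_conj_mon (m : MonData Φ F) {g : Φ.O F} (hg : g ∈ rootSub Φ F) :
    m.toO * g * (m.toO)⁻¹ ∈ rootSub Φ F := by
  unfold rootSub at hg
  induction hg using Subgroup.closure_induction with
  | mem y hy =>
    obtain ⟨p, q, hp, hq, hqp, t, rfl⟩ := hy
    have hp' : Φ.mate (m.σ p) ≠ m.σ p := by
      rw [m.mate_σ]; exact fun e => hp (m.σ.injective e)
    rw [conj_eichO Φ m.toO hp hp' (m.app_dlt' p)]
    · exact eich_mem_rootSub Φ hp' _ _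
    · have : m.σ (Φ.mate p) ≠ m.σ q := fun e => hq (m.σ.injective e).symm
      rw [app_smul, m.app_dlt', m.mate_σ]
      simp [dlt, this]
  | one => simp
  | mul y z _ _ hy hz => simpa [mul_assoc] using mul_mem hy hz
  | inv y _ hy => simpa [mul_assoc] using inv_mem hy

/-- The subgroup generated by root and monomial elements. -/
def bigSub (F : Type*) [Field F] : Subgroup (Φ.O F) := rootSub Φ F ⊔ Subgroup.closure (monSet Φ F)

theorem eich_mem_bigSub {p : ι} (hp : Φ.mate p ≠ p) (w : ι → F) (hw : w (Φ.mate p) = 0) :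
    eichO Φ hp w hw ∈ bigSub Φ F :=
  Subgroup.mem_sup_left (eich_mem_rootSub Φ hp w hw)

theorem mon_mem_bigSub {g : Φ.O F} (hg : g ∈ monSet Φ F) : g ∈ bigSub Φ F :=
  Subgroup.mem_sup_right (Subgroup.subset_closure hg)

theorem eichFun_dlt_of_ne {p : ι} (hp : Φ.mate p ≠ p) (w : ι → F) {s : ι} (hs : Φ.mate s ≠ s)
    (hsp : s ≠ Φ.mate p) (hw : w (Φ.mate s) = 0) : Φ.eichFun p w (dlt s) = dlt s := by
  have h1 : (dlt s : ι → F) (Φ.mate p) = 0 := by simp [dlt, hsp.symm]
  simp [Frame.eichFun, h1, Φ.B_comm w, Φ.B_dlt hs, hw]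

/-- Clearing a singular vector with non-zero coordinate at `p`. -/
theorem exists_clear (S : Finset ι) (hSh : ∀ s ∈ S, Φ.mate s ≠ s)
    (hSm : ∀ s ∈ S, Φ.mate s ∈ S) {p : ι} (hp : Φ.mate p ≠ p) (hpS : p ∉ S) {u : ι → F}
    (huQ : Φ.Q F u = 0) (hu : ∀ s ∈ S, u s = 0) (hup : u p ≠ 0) :
    ∃ r ∈ bigSub Φ F, (∀ s ∈ S, app r (dlt s) = dlt s) ∧ app r u = dlt p := by
  have hmS : Φ.mate p ∉ S := fun h => hpS (by simpa [Φ.mate_mate] using hSm _ h)
  set a := u p with ha
  set w : ι → F := fun q => if q = p ∨ q = Φ.mate p then 0 else -a⁻¹ * u q with hwdef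
  have hw : w (Φ.mate (Φ.mate p)) = 0 := by simp [hwdef, Φ.mate_mate]
  set e := eichO Φ (Φ.mate_ne hp) w hw with he
  set h := (hData hp a⁻¹ (inv_ne_zero hup)).toO with hh
  refine ⟨h * e, mul_mem (mon_mem_bigSub Φ (Or.inl ⟨p, hp, _, _, hh⟩))
    (eich_mem_bigSub Φ _ _ hw), fun s hs => ?_, ?_⟩
  · have h1 : s ≠ p := fun e => hpS (e ▸ hs)
    have h2 : s ≠ Φ.mate p := fun e => hmS (e ▸ hs)
    rw [app_mul, he, app_eichO, eichFun_dlt_of_ne Φ (Φ.mate_ne hp) w (hSh s hs)
      (by rw [Φ.mate_mate]; exact h1) (by simp [hwdef, hu _ (hSm s hs)]), hh, MonData.app_dlt']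
    simp [hData, h1, h2]
  · have hflat : ∀ q, q ≠ p → q ≠ Φ.mate p → app e u q = 0 := by
      intro q h1 h2
      rw [he, app_eichO]
      simp [Frame.eichFun, Φ.mate_mate, hwdef, dlt, h1, h2, ← ha]
      field_simp
      ring
    have hep : app e u p = a := by
      rw [he, app_eichO]
      simp [Frame.eichFun, Φ.mate_mate, hwdef, dlt, hp.symm, ← ha]
    have hform : app e u = a • dlt p + app e u (Φ.mate p) • dlt (Φ.mate p) := by
      funext q
      rcases eq_or_ne q p with rfl | h1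
      · simp [dlt, hep, hp.symm]
      · rcases eq_or_ne q (Φ.mate p) with rfl | h2
        · simp [dlt, hp]
        · simp [dlt, h1, h2, hflat q h1 h2]
    have hb : app e u (Φ.mate p) = 0 := by
      have := Q_app Φ e u
      rw [huQ, hform, Φ.Q_add, Φ.Q_smul, Φ.Q_smul, Φ.Q_dlt hp, Φ.Q_dlt (Φ.mate_ne hp),
        Φ.B_smul_left, Φ.B_smul_right, Φ.B_dlt hp] at this
      simpa [dlt, hup] using this
    rw [app_mul, hform, hb, zero_smul, add_zero, app_smul, hh, MonData.app_dlt']
    simp [hData, smul_smul, mul_inv_cancel₀ hup]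

/-- An isometry fixing some pairs can be corrected to fix one more basis vector. -/
theorem exists_fix_one (S : Finset ι) (hSh : ∀ s ∈ S, Φ.mate s ≠ s)
    (hSm : ∀ s ∈ S, Φ.mate s ∈ S) {p : ι} (hp : Φ.mate p ≠ p) (hpS : p ∉ S) (g : Φ.O F)
    (hg : ∀ s ∈ S, app g (dlt s) = dlt s) :
    ∃ r ∈ bigSub Φ F, (∀ s ∈ S, app (r * g) (dlt s) = dlt s) ∧ app (r * g) (dlt p) = dlt p := by
  set u := app g (dlt p) with hudef
  have huQ : Φ.Q F u = 0 := by rw [hudef, Q_app, Φ.Q_dlt hp]
  have hu : ∀ s ∈ S, u s = 0 := by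
    intro s hs
    have h1 := B_app Φ g (dlt (Φ.mate s)) (dlt p)
    rw [hg _ (hSm s hs), Φ.B_dlt (Φ.mate_ne (hSh s hs)), Φ.B_dlt (Φ.mate_ne (hSh s hs)),
      Φ.mate_mate, ← hudef] at h1
    rw [h1]
    have : s ≠ p := fun e => hpS (e ▸ hs)
    simp [dlt, this]
  have hmS : Φ.mate p ∉ S := fun h => hpS (by simpa [Φ.mate_mate] using hSm _ h)
  suffices H : ∃ r ∈ bigSub Φ F, (∀ s ∈ S, app r (dlt s) = dlt s) ∧ app r u p ≠ 0 by
    obtain ⟨r, hr, hrS, hrp⟩ := H
    have hu' : ∀ s ∈ S, app r u s = 0 := by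
      intro s hs
      have h1 := B_app Φ r (dlt (Φ.mate s)) u
      rw [hrS _ (hSm s hs), Φ.B_dlt (Φ.mate_ne (hSh s hs)), Φ.B_dlt (Φ.mate_ne (hSh s hs)),
        Φ.mate_mate] at h1
      rw [h1, hu s hs]
    obtain ⟨r', hr', hr'S, hr'p⟩ :=
      exists_clear Φ S hSh hSm hp hpS (by rw [Q_app, huQ]) hu' hrp
    refine ⟨r' * r, mul_mem hr' hr, fun s hs => ?_, ?_⟩
    · rw [app_mul, app_mul, hg s hs, hrS s hs, hr'S s hs]
    · rw [app_mul, app_mul, ← hudef, hr'p]
  by_cases h1 : u p ≠ 0
  · exact ⟨1, one_mem _, fun s _ => app_one Φ _, by simpa using h1⟩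
  rw [not_not] at h1
  by_cases h2 : u (Φ.mate p) ≠ 0
  · refine ⟨(swapData hp).toO, mon_mem_bigSub Φ (Or.inr (Or.inl ⟨p, hp, rfl⟩)), fun s hs => ?_, ?_⟩
    · have e1 : s ≠ p := fun e => hpS (e ▸ hs)
      have e2 : s ≠ Φ.mate p := fun e => hmS (e ▸ hs)
      simp [MonData.app_dlt', swapData, Equiv.swap_apply_of_ne_of_ne e1 e2]
    · simpa [swapData] using h2
  rw [not_not] at h2
  obtain ⟨q, hq, huq⟩ : ∃ q, Φ.mate q ≠ q ∧ u q ≠ 0 := by
    by_contra hc
    push Not at hc
    have hu0 : u ≠ 0 := by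
      intro h0
      have := congrArg (fun v => app g⁻¹ v p) h0
      simp [hudef, app_inv_app, dlt] at this
      simp [app] at this
    obtain ⟨z, hz⟩ := Function.ne_iff.mp hu0
    have hzfix : Φ.mate z = z := by
      by_contra hne
      exact hz (hc z hne)
    have : u = u z • dlt z := by
      funext q
      rcases eq_or_ne q z with rfl | hqz
      · simp [dlt]
      · have : Φ.mate q ≠ q := fun e => hqz (Φ.fixed_unique q z e hzfix)
        simp [dlt, hqz, hc q this]
    rw [this, Φ.Q_smul, Φ.Q_dlt_fixed hzfix, mul_one, mul_self_eq_zero] at huQ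
    exact hz huQ
  have q1 : q ≠ p := fun e => huq (e ▸ h1)
  have q2 : q ≠ Φ.mate p := fun e => huq (e ▸ h2)
  have qS : q ∉ S := fun h => huq (hu q h)
  have hw : (dlt (Φ.mate q) : ι → F) (Φ.mate p) = 0 := by
    have : Φ.mate p ≠ Φ.mate q := fun e => q1 (by rw [← Φ.mate_mate q, ← e, Φ.mate_mate])
    simp [dlt, this]
  refine ⟨eichO Φ hp _ hw, eich_mem_bigSub Φ hp _ hw, fun s hs => ?_, ?_⟩
  · rw [app_eichO, eichFun_dlt_of_ne Φ hp _ (hSh s hs) (fun e => hmS (e ▸ hs))]
    have : Φ.mate s ≠ Φ.mate q := fun e => qS (by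
      rw [← Φ.mate_mate q, ← e, Φ.mate_mate]; exact hs)
    simp [dlt, this]
  · have hpq : p ≠ Φ.mate q := fun e => q2 (by rw [e, Φ.mate_mate])
    rw [app_eichO]
    simp [Frame.eichFun, Φ.B_dlt (Φ.mate_ne hq), Φ.Q_dlt (Φ.mate_ne hq), Φ.mate_mate, h1, h2, hpq]
    simpa [dlt] using huq

/-- An isometry fixing `p` can be corrected to fix its mate as well. -/
theorem exists_fix_mate (S : Finset ι) (hSh : ∀ s ∈ S, Φ.mate s ≠ s)
    (hSm : ∀ s ∈ S, Φ.mate s ∈ S) {p : ι} (hp : Φ.mate p ≠ p) (hpS : p ∉ S) (g : Φ.O F)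
    (hg : ∀ s ∈ S, app g (dlt s) = dlt s) (hgp : app g (dlt p) = dlt p) :
    ∃ r ∈ bigSub Φ F, (∀ s ∈ S, app (r * g) (dlt s) = dlt s) ∧
      app (r * g) (dlt p) = dlt p ∧ app (r * g) (dlt (Φ.mate p)) = dlt (Φ.mate p) := by
  have hmS : Φ.mate p ∉ S := fun h => hpS (by simpa [Φ.mate_mate] using hSm _ h)
  set v := app g (dlt (Φ.mate p)) with hvdef
  have hv1 : v (Φ.mate p) = 1 := by
    have h1 := B_app Φ g (dlt p) (dlt (Φ.mate p))
    rw [hgp, Φ.B_dlt hp, Φ.B_dlt hp, ← hvdef] at h1
    simpa [dlt] using h1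
  have hv : ∀ s ∈ S, v s = 0 := by
    intro s hs
    have h1 := B_app Φ g (dlt (Φ.mate s)) (dlt (Φ.mate p))
    rw [hg _ (hSm s hs), Φ.B_dlt (Φ.mate_ne (hSh s hs)), Φ.B_dlt (Φ.mate_ne (hSh s hs)),
      Φ.mate_mate, ← hvdef] at h1
    rw [h1]
    have : s ≠ Φ.mate p := fun e => hmS (e ▸ hs)
    simp [dlt, this]
  set w : ι → F := fun q => if q = p ∨ q = Φ.mate p then 0 else -v q with hwdef
  have hw : w (Φ.mate p) = 0 := by simp [hwdef]
  set e := eichO Φ hp w hw with he
  have hflat : ∀ q, q ≠ p → q ≠ Φ.mate p → app e v q = 0 := by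
    intro q h1 h2
    rw [he, app_eichO]
    simp [Frame.eichFun, hwdef, dlt, h1, h2, hv1]
  have hem : app e v (Φ.mate p) = 1 := by
    rw [he, app_eichO]
    simp [Frame.eichFun, hwdef, dlt, hp, hv1]
  have hform : app e v = app e v p • dlt p + dlt (Φ.mate p) := by
    funext q
    rcases eq_or_ne q p with rfl | h1
    · simp [dlt, hp.symm]
    · rcases eq_or_ne q (Φ.mate p) with rfl | h2
      · simp [dlt, hp, hem]
      · simp [dlt, h1, h2, hflat q h1 h2]
  have hb : app e v p = 0 := by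
    have hvQ : Φ.Q F v = 0 := by rw [hvdef, Q_app, Φ.Q_dlt (Φ.mate_ne hp)]
    have := Q_app Φ e v
    rw [hvQ, hform, Φ.Q_add, Φ.Q_smul, Φ.Q_dlt hp,
      Φ.Q_dlt (Φ.mate_ne hp), Φ.B_smul_left, Φ.B_dlt hp] at this
    simpa [dlt] using this
  refine ⟨e, eich_mem_bigSub Φ hp w hw, fun s hs => ?_, ?_, ?_⟩
  · rw [app_mul, hg s hs, he, app_eichO,
      eichFun_dlt_of_ne Φ hp w (hSh s hs) (fun e => hmS (e ▸ hs))]
    simp [hwdef, hv _ (hSm s hs)]
  · rw [app_mul, hgp, he, app_eichO, eichFun_dlt_of_ne Φ hp w hp hp.symm hw]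
  · rw [app_mul, ← hvdef, hform, hb, zero_smul, zero_add]

theorem mem_bigSub_of_fix (g : Φ.O F) (hg : ∀ s, Φ.mate s ≠ s → app g (dlt s) = dlt s) :
    g ∈ bigSub Φ F := by
  by_cases hz : ∃ z, Φ.mate z = z
  · obtain ⟨z, hz⟩ := hz
    have hflat : ∀ q, Φ.mate q ≠ q → app g (dlt z) q = 0 := by
      intro q hq
      have h1 := B_app Φ g (dlt (Φ.mate q)) (dlt z)
      rw [hg _ (Φ.mate_ne hq), Φ.B_dlt (Φ.mate_ne hq), Φ.B_dlt (Φ.mate_ne hq), Φ.mate_mate] at h1
      rw [h1]
      have : q ≠ z := fun e => hq (e ▸ hz)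
      simp [dlt, this]
    have hform : app g (dlt z) = app g (dlt z) z • dlt z := by
      funext q
      rcases eq_or_ne q z with rfl | hqz
      · simp [dlt]
      · simp [dlt, hqz, hflat q fun e => hqz (Φ.fixed_unique q z e hz)]
    have hc : app g (dlt z) z * app g (dlt z) z = 1 := by
      have := Q_app Φ g (dlt z)
      rw [hform, Φ.Q_smul, Φ.Q_dlt_fixed hz, mul_one] at this
      exact this
    have hlin : ∀ (k : Φ.O F), (∀ q, app g (dlt q) = app k (dlt q)) → g = k := by
      intro k hk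
      refine app_ext Φ fun x => ?_
      have hadd : ∀ (h : Φ.O F), app h x = ∑ q, x q • app h (dlt q) := by
        intro h
        conv_lhs => rw [pi_eq_sum_univ' x]
        simp [app, Matrix.mulVec_sum, Matrix.mulVec_smul]
      rw [hadd, hadd]
      simp_rw [hk]
    rcases mul_self_eq_one_iff.mp hc with h1 | h1
    · have : g = 1 := hlin 1 fun q => by
        rcases eq_or_ne q z with rfl | hqz
        · rw [hform, h1, one_smul, app_one]
        · rw [hg q fun e => hqz (Φ.fixed_unique q z e hz), app_one]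
      rw [this]; exact one_mem _
    · have : g = (signData hz).toO := hlin _ fun q => by
        rcases eq_or_ne q z with rfl | hqz
        · rw [hform, h1, MonData.app_dlt']; simp [signData]
        · rw [hg q fun e => hqz (Φ.fixed_unique q z e hz), MonData.app_dlt']
          simp [signData, hqz]
      rw [this]; exact mon_mem_bigSub Φ (Or.inr (Or.inr ⟨z, hz, rfl⟩))
  · push Not at hz
    have : g = 1 := app_ext Φ fun x => by
      rw [app_one]
      conv_lhs => rw [pi_eq_sum_univ' x]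
      conv_rhs => rw [pi_eq_sum_univ' x]
      simp only [app, Matrix.mulVec_sum, Matrix.mulVec_smul]
      exact Finset.sum_congr rfl fun q _ => congrArg _ (hg q (hz q))
    rw [this]; exact one_mem _

theorem bigSub_eq_top : bigSub Φ F = ⊤ := by
  rw [eq_top_iff]
  intro g _
  suffices H : ∀ (k : ℕ) (S : Finset ι), Fintype.card ι - S.card = k →
      (∀ s ∈ S, Φ.mate s ≠ s) → (∀ s ∈ S, Φ.mate s ∈ S) →
      ∀ g : Φ.O F, (∀ s ∈ S, app g (dlt s) = dlt s) → g ∈ bigSub Φ F from
    H _ ∅ rfl (by simp) (by simp) g (by simp)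
  intro k
  induction k using Nat.strong_induction_on with
  | _ k ih =>
    intro S hk hSh hSm g hg
    by_cases hp : ∃ p, Φ.mate p ≠ p ∧ p ∉ S
    · obtain ⟨p, hp, hpS⟩ := hp
      have hmS : Φ.mate p ∉ S := fun h => hpS (by simpa [Φ.mate_mate] using hSm _ h)
      obtain ⟨r₁, hr₁, h1S, h1p⟩ := exists_fix_one Φ S hSh hSm hp hpS g hg
      obtain ⟨r₂, hr₂, h2S, h2p, h2m⟩ := exists_fix_mate Φ S hSh hSm hp hpS _ h1S h1p
      have hcard : (insert p (insert (Φ.mate p) S)).card = S.card + 2 := by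
        rw [Finset.card_insert_of_notMem (by simp [hp.symm, hpS]),
          Finset.card_insert_of_notMem hmS]
      have := Finset.card_le_univ (insert p (insert (Φ.mate p) S))
      have hmem := ih (Fintype.card ι - (insert p (insert (Φ.mate p) S)).card) (by omega)
        (insert p (insert (Φ.mate p) S)) rfl
        (by
          simp only [Finset.forall_mem_insert]
          exact ⟨hp, Φ.mate_ne hp, hSh⟩)
        (by
          intro s hs
          simp only [Finset.mem_insert] at hs ⊢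
          rcases hs with rfl | rfl | hs
          · exact Or.inr (Or.inl rfl)
          · exact Or.inl (Φ.mate_mate p)
          · exact Or.inr (Or.inr (hSm s hs)))
        (r₂ * (r₁ * g))
        (by
          simp only [Finset.forall_mem_insert]
          exact ⟨h2p, h2m, h2S⟩)
      rwa [Subgroup.mul_mem_cancel_left _ hr₂, Subgroup.mul_mem_cancel_left _ hr₁] at hmem
    · push Not at hp
      exact mem_bigSub_of_fix Φ g fun s hs => hg s (hp s hs)

theorem rootSub_normal : (rootSub Φ F).Normal := by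
  rw [← Subgroup.normalizer_eq_top_iff, eq_top_iff, ← bigSub_eq_top (F := F) Φ, bigSub, sup_le_iff]
  refine ⟨Subgroup.le_normalizer, (Subgroup.closure_le _).mpr fun g hg => ?_⟩
  obtain ⟨m, rfl⟩ : ∃ m : MonData Φ F, g = m.toO := by
    rcases hg with ⟨p, hp, a, ha, rfl⟩ | ⟨p, hp, rfl⟩ | ⟨z, hz, rfl⟩ <;> exact ⟨_, rfl⟩
  rw [SetLike.mem_coe, Subgroup.mem_normalizer_iff]
  intro h
  refine ⟨fun hh => rootSub_conj_mon Φ m hh, fun hh => ?_⟩
  let m' : MonData Φ F :=
    { σ := m.σ
      d := fun q => (m.d (m.σ q))⁻¹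
      invol := m.invol
      pair := m.pair
      d_mul := fun q => by
        rw [← m.mate_σ, ← mul_inv, m.d_mul, inv_one] }
  have e : m'.toO = (m.toO)⁻¹ := by
    apply eq_inv_of_mul_eq_one_left
    refine app_ext Φ fun x => funext fun q => ?_
    simp only [app_mul, app_one, MonData.app_toO, m']
    rw [m.invol, ← mul_assoc, inv_mul_cancel₀ (m.d_ne _), one_mul]
  have := rootSub_conj_mon Φ m' hh
  rw [e] at this
  simpa [mul_assoc] using this

theorem pairTorus_mem {p q : ι} (hp : Φ.mate p ≠ p) (hq : Φ.mate q ≠ q) (h1 : q ≠ p)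
    (h2 : q ≠ Φ.mate p) (a : F) (ha : a ≠ 0) :
    (hData hp a ha).toO * (hData hq a ha).toO ∈ rootSub Φ F := by
  have m1 : Φ.mate q ≠ p := fun e => h2 (by rw [← e, Φ.mate_mate])
  have m2 : Φ.mate q ≠ Φ.mate p := fun e => h1 (by rw [← Φ.mate_mate q, e, Φ.mate_mate])
  have hU : ∀ t : F, (t • dlt q : ι → F) (Φ.mate p) = 0 := fun t => by simp [dlt, h2.symm]
  have hL : ∀ t : F, (t • dlt (Φ.mate q) : ι → F) (Φ.mate (Φ.mate p)) = 0 := fun t => by
    simp [dlt, Φ.mate_mate, m1.symm]
  let U : F → Φ.O F := fun t => eichO Φ hp _ (hU t)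
  let L : F → Φ.O F := fun t => eichO Φ (Φ.mate_ne hp) _ (hL t)
  have memU : ∀ t, U t ∈ rootSub Φ F := fun t => eich_mem_rootSub Φ hp _ _
  have memL : ∀ t, L t ∈ rootSub Φ F := fun t => eich_mem_rootSub Φ _ _ _
  have appU : ∀ t x i, app (U t) x i = x i + (if i = q then t * x (Φ.mate p) else 0) -
      (if i = p then t * x (Φ.mate q) else 0) := by
    intro t x i
    simp [U, Frame.eichFun, Φ.B_smul_left, Φ.B_dlt hq, Φ.Q_smul, Φ.Q_dlt hq, dlt, Pi.single_apply,
      mul_comm]
  have appL : ∀ t x i, app (L t) x i = x i + (if i = Φ.mate q then t * x p else 0) -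
      (if i = Φ.mate p then t * x q else 0) := by
    intro t x i
    simp [L, Frame.eichFun, Φ.B_smul_left, Φ.B_dlt (Φ.mate_ne hq), Φ.Q_smul,
      Φ.Q_dlt (Φ.mate_ne hq), Φ.mate_mate, dlt, Pi.single_apply, mul_comm]
  have e : (hData hp a ha).toO * (hData hq a ha).toO =
      U a * L a⁻¹ * U a * (U (-1) * L (-1) * U (-1)) := by
    refine app_ext Φ fun x => funext fun i => ?_
    simp only [app_mul, appU, appL, MonData.app_toO, hData, Equiv.Perm.one_apply]
    rcases eq_or_ne i p with rfl | i1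
    · simp [h1, h1.symm, h2, h2.symm, hp, hp.symm, hq, hq.symm, m1, m1.symm, m2, m2.symm]
      field_simp
      ring
    rcases eq_or_ne i (Φ.mate p) with rfl | i2
    · simp [h1, h1.symm, h2, h2.symm, hp, hp.symm, hq, hq.symm, m1, m1.symm, m2, m2.symm]
      field_simp
      ring
    rcases eq_or_ne i q with rfl | i3
    · simp [h1, h1.symm, h2, h2.symm, hp, hp.symm, hq, hq.symm, m1, m1.symm, m2, m2.symm]
      field_simp
      ring
    rcases eq_or_ne i (Φ.mate q) with rfl | i4
    · simp [h1, h1.symm, h2, h2.symm, hp, hp.symm, hq, hq.symm, m1, m1.symm, m2, m2.symm]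
      field_simp
      ring
    simp [i1, i2, i3, i4]
  rw [e]
  exact mul_mem (mul_mem (mul_mem (memU _) (memL _)) (memU _))
    (mul_mem (mul_mem (memU _) (memL _)) (memU _))

variable (htwo : ∀ p, Φ.mate p ≠ p → ∃ q, Φ.mate q ≠ q ∧ q ≠ p ∧ q ≠ Φ.mate p)

include htwo in
theorem torus_sq_mem {p : ι} (hp : Φ.mate p ≠ p) (a : F) (ha : a ≠ 0) :
    (hData hp a ha).toO * (hData hp a ha).toO ∈ rootSub Φ F := by
  obtain ⟨q, hq, h1, h2⟩ := htwo p hp
  have m1 : Φ.mate q ≠ p := fun e => h2 (by rw [← e, Φ.mate_mate])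
  have m2 : Φ.mate q ≠ Φ.mate p := fun e => h1 (by rw [← Φ.mate_mate q, e, Φ.mate_mate])
  have := mul_mem (pairTorus_mem Φ hp hq h1 h2 a ha) (pairTorus_mem Φ hp (Φ.mate_ne hq) m1 m2 a ha)
  convert this using 1
  refine app_ext Φ fun x => funext fun i => ?_
  simp only [app_mul, MonData.app_toO, hData, Equiv.Perm.one_apply, Φ.mate_mate]
  rcases eq_or_ne i q with rfl | i3
  · simp [h1, h2, hq.symm, ha]
  · rcases eq_or_ne i (Φ.mate q) with rfl | i4
    · simp [m1, m2, hq, ha]
    · simp [i3, i4]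

include htwo in
theorem commutator_le_rootSub : commutator (Φ.O F) ≤ rootSub Φ F := by
  have hN := rootSub_normal (F := F) Φ
  have comm : ∀ g ∈ monSet Φ F, ∀ g' ∈ monSet Φ F,
      QuotientGroup.mk' (rootSub Φ F) g * QuotientGroup.mk' (rootSub Φ F) g' =
        QuotientGroup.mk' (rootSub Φ F) g' * QuotientGroup.mk' (rootSub Φ F) g := by
    have swaph : ∀ (p : ι) (hp : Φ.mate p ≠ p) (r : ι) (hr : Φ.mate r ≠ r) (a : F) (ha : a ≠ 0),
        QuotientGroup.mk' (rootSub Φ F) ((hData hr a ha).toO * (swapData hp).toO) =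
          QuotientGroup.mk' (rootSub Φ F) ((swapData hp).toO * (hData hr a ha).toO) := by
      intro p hp r hr a ha
      by_cases hrp : r = p ∨ r = Φ.mate p
      · have e : (hData hr a ha).toO * (swapData hp).toO =
            ((hData hr a ha).toO * (hData hr a ha).toO) *
              ((swapData hp).toO * (hData hr a ha).toO) := by
          refine app_ext Φ fun x => funext fun i => ?_
          simp only [app_mul, MonData.app_toO, hData, swapData, Equiv.Perm.one_apply]
          rcases eq_or_ne i p with rfl | i1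
          · rcases hrp with rfl | rfl <;> simp [hp, hp.symm, Φ.mate_mate, ha] <;> field_simp
          · rcases eq_or_ne i (Φ.mate p) with rfl | i2
            · rcases hrp with rfl | rfl <;> simp [hp, hp.symm, Φ.mate_mate, ha] <;> field_simp
            · rcases hrp with rfl | rfl <;>
                simp [i1, i2, Φ.mate_mate, Equiv.swap_apply_of_ne_of_ne i1 i2]
        rw [e, map_mul]
        have : QuotientGroup.mk' (rootSub Φ F) ((hData hr a ha).toO * (hData hr a ha).toO) = 1 :=
          (QuotientGroup.eq_one_iff _).mpr (torus_sq_mem Φ htwo hr a ha)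
        rw [this, one_mul]
      · push Not at hrp
        have r1 : Φ.mate r ≠ p := fun e => hrp.2 (by rw [← e, Φ.mate_mate])
        have r2 : Φ.mate r ≠ Φ.mate p := fun e => hrp.1 (by
          rw [← Φ.mate_mate r, e, Φ.mate_mate])
        congr 1
        refine app_ext Φ fun x => funext fun i => ?_
        simp only [app_mul, MonData.app_toO, hData, swapData, Equiv.Perm.one_apply]
        rcases eq_or_ne i p with rfl | i1
        · simp [hrp.1.symm, r1.symm, hrp.2.symm, r2.symm]
        · rcases eq_or_ne i (Φ.mate p) with rfl | i2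
          · simp [hrp.1.symm, r1.symm, hrp.2.symm, r2.symm]
          · simp [Equiv.swap_apply_of_ne_of_ne i1 i2]
    have diag : ∀ m m' : MonData Φ F, m.σ = 1 → m'.σ = 1 → m.toO * m'.toO = m'.toO * m.toO := by
      intro m m' h h'
      refine app_ext Φ fun x => funext fun i => ?_
      simp [h, h', mul_left_comm]
    have swapsign : ∀ (p : ι) (hp : Φ.mate p ≠ p) (z : ι) (hz : Φ.mate z = z),
        (signData hz).toO * (swapData (F := F) hp).toO =
          (swapData hp).toO * (signData hz).toO := by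
      intro p hp z hz
      have z1 : z ≠ p := fun e => hp (e ▸ hz)
      have z2 : z ≠ Φ.mate p := fun e => hp (by
        have h := hz; rw [e, Φ.mate_mate] at h; exact h.symm)
      refine app_ext Φ fun x => funext fun i => ?_
      simp only [app_mul, MonData.app_toO, signData, swapData, Equiv.Perm.one_apply, one_mul]
      rcases eq_or_ne i z with rfl | iz
      · simp [Equiv.swap_apply_of_ne_of_ne z1 z2]
      · have : Equiv.swap p (Φ.mate p) i ≠ z := fun e => iz (by
          rw [← Equiv.swap_apply_self p (Φ.mate p) i, e, Equiv.swap_apply_of_ne_of_ne z1 z2])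
        simp [iz, this]
    have swapswap : ∀ (p : ι) (hp : Φ.mate p ≠ p) (r : ι) (hr : Φ.mate r ≠ r),
        (swapData (F := F) hp).toO * (swapData hr).toO = (swapData hr).toO * (swapData hp).toO := by
      intro p hp r hr
      by_cases hrp : r = p ∨ r = Φ.mate p
      · have : (swapData (F := F) hr).toO = (swapData hp).toO := by
          refine app_ext Φ fun x => funext fun i => ?_
          rcases hrp with rfl | rfl
          · rfl
          · simp [swapData, Φ.mate_mate, Equiv.swap_comm]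
        rw [this]
      · push Not at hrp
        have r1 : Φ.mate r ≠ p := fun e => hrp.2 (by rw [← e, Φ.mate_mate])
        have r2 : Φ.mate r ≠ Φ.mate p := fun e => hrp.1 (by
          rw [← Φ.mate_mate r, e, Φ.mate_mate])
        refine app_ext Φ fun x => funext fun i => ?_
        simp only [app_mul, MonData.app_toO, swapData, one_mul]
        rcases eq_or_ne i p with rfl | i1
        · simp [Equiv.swap_apply_of_ne_of_ne hrp.1.symm r1.symm,
            Equiv.swap_apply_of_ne_of_ne hrp.2.symm r2.symm]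
        · rcases eq_or_ne i (Φ.mate p) with rfl | i2
          · simp [Equiv.swap_apply_of_ne_of_ne hrp.1.symm r1.symm,
              Equiv.swap_apply_of_ne_of_ne hrp.2.symm r2.symm]
          · rcases eq_or_ne i r with rfl | i3
            · simp [Equiv.swap_apply_of_ne_of_ne i1 i2, Equiv.swap_apply_of_ne_of_ne r1 r2]
            · rcases eq_or_ne i (Φ.mate r) with rfl | i4
              · simp [Equiv.swap_apply_of_ne_of_ne i1 i2,
                  Equiv.swap_apply_of_ne_of_ne hrp.1 hrp.2]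
              · simp [Equiv.swap_apply_of_ne_of_ne i1 i2, Equiv.swap_apply_of_ne_of_ne i3 i4]
    rintro g (⟨p, hp, a, ha, rfl⟩ | ⟨p, hp, rfl⟩ | ⟨z, hz, rfl⟩) g'
      (⟨r, hr, b, hb, rfl⟩ | ⟨r, hr, rfl⟩ | ⟨w, hw, rfl⟩) <;> simp only [← map_mul]
    · rw [diag (hData hp a ha) (hData hr b hb) rfl rfl]
    · exact swaph r hr p hp a ha
    · rw [diag (hData hp a ha) (signData hw) rfl rfl]
    · exact (swaph p hp r hr b hb).symm
    · rw [swapswap p hp r hr]
    · rw [swapsign p hp w hw]
    · rw [diag (signData hz) (hData hr b hb) rfl rfl]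
    · rw [swapsign r hr z hz]
    · rw [diag (signData hz) (signData hw) rfl rfl]
  have hgen : Subgroup.closure (QuotientGroup.mk' (rootSub Φ F) '' monSet Φ F) = ⊤ := by
    rw [← MonoidHom.map_closure, eq_top_iff]
    rintro x -
    obtain ⟨g, rfl⟩ := QuotientGroup.mk'_surjective _ x
    have hg : g ∈ bigSub Φ F := by rw [bigSub_eq_top]; trivial
    have := Subgroup.mem_map_of_mem (QuotientGroup.mk' (rootSub Φ F)) hg
    rw [bigSub, Subgroup.map_sup, QuotientGroup.map_mk'_self, bot_sup_eq] at this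
    exact this
  rw [commutator_def, Subgroup.commutator_le]
  intro g _ g' _
  rw [← QuotientGroup.eq_one_iff]
  show QuotientGroup.mk' (rootSub Φ F) ⁅g, g'⁆ = 1
  rw [map_commutatorElement, commutatorElement_eq_one_iff_mul_comm]
  have key : ∀ x y : Φ.O F ⧸ rootSub Φ F, x * y = y * x := by
    intro x y
    have hx : x ∈ Subgroup.closure (QuotientGroup.mk' (rootSub Φ F) '' monSet Φ F) := by
      rw [hgen]; trivial
    have hy : y ∈ Subgroup.closure (QuotientGroup.mk' (rootSub Φ F) '' monSet Φ F) := by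
      rw [hgen]; trivial
    induction hx, hy using Subgroup.closure_induction₂ with
    | mem x y hx hy =>
      obtain ⟨a, ha, rfl⟩ := hx
      obtain ⟨b, hb, rfl⟩ := hy
      exact comm a ha b hb
    | one_left x _ => simp
    | one_right x _ => simp
    | mul_left x y z _ _ _ h1 h2 => rw [mul_assoc, h2, ← mul_assoc, h1, mul_assoc]
    | mul_right x y z _ _ _ h1 h2 => rw [← mul_assoc, h1, mul_assoc, h2, mul_assoc]
    | inv_left x y _ _ h => exact (Commute.inv_left h).eq
    | inv_right x y _ _ h => exact (Commute.inv_right h).eq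
  exact key _ _

theorem rootSub_le_commutator
    (h : (∃ a : F, a ≠ 0 ∧ a ≠ 1) ∨ ((∀ q, Φ.mate q ≠ q) ∧ ∀ p q, Φ.mate p ≠ p →
      ∃ r, Φ.mate r ≠ r ∧ r ≠ p ∧ r ≠ Φ.mate p ∧ r ≠ q ∧ r ≠ Φ.mate q)) :
    rootSub Φ F ≤ commutator (Φ.O F) := by
  unfold rootSub
  rw [Subgroup.closure_le]
  rintro g ⟨p, q, hp, hq, hqp, t, rfl⟩
  rw [SetLike.mem_coe]
  rcases h with ⟨a, ha0, ha1⟩ | ⟨hfix, h3⟩
  · set T := (hData hp a ha0).toO with hT
    have ha : a - 1 ≠ 0 := sub_ne_zero.mpr ha1
    have hw : ((t / (a - 1)) • dlt q : ι → F) (Φ.mate p) = 0 := by simp [dlt, hq.symm]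
    set E := eichO Φ hp _ hw with hE
    have hqd : app T (dlt q) = dlt q := by
      rw [hT, MonData.app_dlt']; simp [hData, hq, hqp]
    have hconj : T * E * T⁻¹ = eichO Φ hp ((a * (t / (a - 1))) • dlt q)
        (by simp [dlt, hq.symm]) := by
      have hTp : app T (dlt p) = a • dlt p := by rw [hT, MonData.app_dlt']; simp [hData]
      have hz : (a • app T ((t / (a - 1)) • dlt q)) (Φ.mate p) = 0 := by
        rw [app_smul, hqd]; simp [dlt, hq.symm]
      rw [hE, conj_eichO Φ T hp hp hTp _ hw hz]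
      refine app_ext Φ fun x => ?_
      rw [app_eichO, app_eichO, app_smul, hqd, smul_smul]
    have : eichO Φ hp (t • dlt q) (by simp [dlt, hq.symm]) = ⁅T, E⁆ := by
      rw [commutatorElement_def, eq_mul_inv_iff_mul_eq, hconj, hE,
        eichO_mul Φ hp (by simp [dlt, hq.symm]) hw]
      refine app_ext Φ fun x => ?_
      rw [app_eichO, app_eichO, ← add_smul]
      congr 2
      field_simp
      ring
    rw [this]
    exact Subgroup.commutator_mem_commutator (Subgroup.mem_top _) (Subgroup.mem_top _)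
  · obtain ⟨r, hr, r1, r2, r3, r4⟩ := h3 p q hp
    have mr1 : Φ.mate r ≠ p := fun e => r2 (by rw [← e, Φ.mate_mate])
    have hAw : (dlt q : ι → F) (Φ.mate (Φ.mate r)) = 0 := by simp [dlt, Φ.mate_mate, r3]
    set A := eichO Φ (Φ.mate_ne hr) _ hAw with hA
    have hw : (t • dlt r : ι → F) (Φ.mate p) = 0 := by simp [dlt, r2.symm]
    set E := eichO Φ hp _ hw with hE
    have hAp : app A (dlt p) = (1 : F) • dlt p := by
      rw [one_smul, hA, app_eichO,
        eichFun_dlt_of_ne Φ (Φ.mate_ne hr) _ hp (by rw [Φ.mate_mate]; exact r1.symm)]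
      simp [dlt, hq.symm]
    have hAr : app A (dlt r) = dlt r + dlt q - Φ.Q F (dlt q) • dlt (Φ.mate r) := by
      rw [hA, app_eichO, Frame.eichFun, Φ.mate_mate, Φ.B_comm, Φ.B_dlt hr]
      have : Φ.mate r ≠ q := fun e => r4 (by rw [← e, Φ.mate_mate])
      simp [dlt, this]
    set w' : ι → F := t • (dlt q - Φ.Q F (dlt q) • dlt (Φ.mate r)) with hw'def
    have hmm : Φ.mate r ≠ Φ.mate p := fun e => r1 (by rw [← Φ.mate_mate r, e, Φ.mate_mate])
    have hw' : w' (Φ.mate p) = 0 := by simp [hw'def, dlt, hq.symm, hmm.symm]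
    have hmem : eichO Φ hp w' hw' ∈ commutator (Φ.O F) := by
      have hz : ((1 : F) • app A (t • dlt r)) (Φ.mate p) = 0 := by
        rw [one_smul, app_smul, hAr]
        simp [dlt, hq.symm, r2.symm, hmm.symm]
      have hconj : A * E * A⁻¹ = eichO Φ hp ((1 : F) • app A (t • dlt r)) hz :=
        conj_eichO Φ A hp hp hAp _ hw hz
      have : eichO Φ hp w' hw' = ⁅A, E⁆ := by
        rw [commutatorElement_def, eq_mul_inv_iff_mul_eq, hconj, hE, eichO_mul Φ hp hw' hw]
        refine app_ext Φ fun x => ?_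
        rw [app_eichO, app_eichO, app_smul, hAr, one_smul, hw'def]
        congr 1
        module
      rw [this]
      exact Subgroup.commutator_mem_commutator (Subgroup.mem_top _) (Subgroup.mem_top _)
    have hqh := hfix q
    · have : eichO Φ hp (t • dlt q) (by simp [dlt, hq.symm]) = eichO Φ hp w' hw' := by
        refine app_ext Φ fun x => ?_
        rw [app_eichO, app_eichO, hw'def, Φ.Q_dlt hqh, zero_smul, sub_zero]
      rw [this]; exact hmem

include htwo in
/-- The commutator subgroup of the orthogonal group of a frame. -/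
theorem commutator_O
    (h : (∃ a : F, a ≠ 0 ∧ a ≠ 1) ∨ ((∀ q, Φ.mate q ≠ q) ∧ ∀ p q, Φ.mate p ≠ p →
      ∃ r, Φ.mate r ≠ r ∧ r ≠ p ∧ r ≠ Φ.mate p ∧ r ≠ q ∧ r ≠ Φ.mate q)) :
    commutator (Φ.O F) = rootSub Φ F :=
  le_antisymm (commutator_le_rootSub Φ htwo) (rootSub_le_commutator Φ h)

end CfsgLib.ChevClassical
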