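import Mathlib

/-!
# Sparse integer bilinear forms for kernel computations
-/

set_option autoImplicit false
set_option linter.unusedSectionVars false

namespace CfsgLib.ChevClassical

variable {ι : Type} [Fintype ι] [DecidableEq ι] {F : Type*} [Field F]

/-- A sparse bilinear form: terms `(c, i, j)`. -/
abbrev Terms (ι : Type) := List (ℤ × ι × ι)

/-- The coefficient at `(i, j)`. -/
def aggAt (L : Terms ι) (i j : ι) : ℤ :=
  ((L.filter fun e => decide (e.2.1 = i ∧ e.2.2 = j)).map fun e => e.1).sum

/-- Pairing of a sparse form with a matrix. -/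
def pairTerms (L : Terms ι) (A : ι → ι → F) : F :=
  (L.map fun e => (e.1 : F) * A e.2.1 e.2.2).sum

theorem aggAt_cons (e : ℤ × ι × ι) (L : Terms ι) (i j : ι) :
    aggAt (e :: L) i j = (if e.2.1 = i ∧ e.2.2 = j then e.1 else 0) + aggAt L i j := by
  unfold aggAt
  by_cases h : e.2.1 = i ∧ e.2.2 = j <;> simp [h]

theorem pairTerms_eq_sum (L : Terms ι) (A : ι → ι → F) :
    pairTerms L A = ∑ i, ∑ j, (aggAt L i j : F) * A i j := by
  induction L with
  | nil => simp [pairTerms, aggAt]
  | cons e L ih =>
    simp only [pairTerms, List.map_cons, List.sum_cons] at ih ⊢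
    rw [ih]
    simp only [aggAt_cons, Int.cast_add, add_mul, Finset.sum_add_distrib]
    congr 1
    rw [Finset.sum_eq_single e.2.1 (fun b _ hb => by simp [hb.symm]) (by simp)]
    rw [Finset.sum_eq_single e.2.2 (fun b _ hb => by simp [hb.symm]) (by simp)]
    simp

theorem pairTerms_add (L : Terms ι) (A A' : ι → ι → F) :
    pairTerms L (fun i j => A i j + A' i j) = pairTerms L A + pairTerms L A' := by
  simp [pairTerms, mul_add, List.sum_map_add]

theorem pairTerms_smul (L : Terms ι) (c : F) (A : ι → ι → F) :
    pairTerms L (fun i j => c * A i j) = c * pairTerms L A := by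
  simp [pairTerms, mul_left_comm, List.sum_map_mul_left]

/-- A symmetric matrix paired with an alternating one gives zero. -/
theorem sum_sym_alt (C A : ι → ι → F) (hC : ∀ i j, C i j = C j i)
    (hA : ∀ i j, A i j + A j i = 0) (hA0 : ∀ i, A i i = 0) :
    ∑ i, ∑ j, C i j * A i j = 0 := by
  rw [← Finset.sum_product']
  refine Finset.sum_involution (fun x _ => (x.2, x.1)) ?_ ?_ (fun x _ => by simp) (fun x _ => rfl)
  · rintro ⟨i, j⟩ _
    rw [hC j i, ← mul_add, hA, mul_zero]
  · rintro ⟨i, j⟩ _ hne he
    simp only [Prod.mk.injEq] at he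
    rw [he.2, hA0, mul_zero] at hne
    exact hne rfl

theorem pairTerms_symm_alt (L : Terms ι) (hL : ∀ i j, aggAt L i j = aggAt L j i) (A : ι → ι → F)
    (hA : ∀ i j, A i j + A j i = 0) (hA0 : ∀ i, A i i = 0) : pairTerms L A = 0 := by
  rw [pairTerms_eq_sum]
  exact sum_sym_alt _ A (fun i j => by rw [hL]) hA hA0

/-- The bilinear form of sparse terms. -/
def bilTerms (L : Terms ι) (u w : ι → F) : F := pairTerms L fun i j => u i * w j

theorem bilTerms_add_left (L : Terms ι) (u u' w : ι → F) :
    bilTerms L (u + u') w = bilTerms L u w + bilTerms L u' w := by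
  simp [bilTerms, pairTerms, add_mul, mul_add, List.sum_map_add]

theorem bilTerms_add_right (L : Terms ι) (u w w' : ι → F) :
    bilTerms L u (w + w') = bilTerms L u w + bilTerms L u w' := by
  simp [bilTerms, pairTerms, mul_add, List.sum_map_add]

theorem bilTerms_smul_left (L : Terms ι) (c : F) (u w : ι → F) :
    bilTerms L (c • u) w = c * bilTerms L u w := by
  rw [bilTerms, bilTerms, ← pairTerms_smul]
  simp [mul_assoc]

theorem bilTerms_smul_right (L : Terms ι) (c : F) (u w : ι → F) :
    bilTerms L u (c • w) = c * bilTerms L u w := by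
  rw [bilTerms, bilTerms, ← pairTerms_smul]
  simp [mul_left_comm]

theorem bilTerms_zero_left (L : Terms ι) (w : ι → F) : bilTerms L 0 w = 0 := by
  simp [bilTerms, pairTerms]

theorem bilTerms_zero_right (L : Terms ι) (u : ι → F) : bilTerms L u 0 = 0 := by
  simp [bilTerms, pairTerms]

theorem bilTerms_list_right {β : Type*} (L : Terms ι) (u : ι → F) (m : List β) (d : β → F)
    (w : β → ι → F) :
    bilTerms L u (m.map fun y => d y • w y).sum =
      (m.map fun y => d y * bilTerms L u (w y)).sum := by
  induction m with
  | nil => simp [bilTerms_zero_right]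
  | cons b m ih => simp only [List.map_cons, List.sum_cons, bilTerms_add_right,
      bilTerms_smul_right, ih]

theorem bilTerms_list_left {α : Type*} (L : Terms ι) (l : List α) (c : α → F) (u : α → ι → F)
    (w : ι → F) :
    bilTerms L (l.map fun x => c x • u x).sum w =
      (l.map fun x => c x * bilTerms L (u x) w).sum := by
  induction l with
  | nil => simp [bilTerms_zero_left]
  | cons a l ih => simp only [List.map_cons, List.sum_cons, bilTerms_add_left,
      bilTerms_smul_left, ih]

theorem bilTerms_sum_sum {α β : Type*} (L : Terms ι) (l : List α) (m : List β) (c : α → F)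
    (d : β → F) (u : α → ι → F) (w : β → ι → F) :
    bilTerms L (l.map fun x => c x • u x).sum (m.map fun y => d y • w y).sum =
      (l.map fun x => (m.map fun y => c x * d y * bilTerms L (u x) (w y)).sum).sum := by
  rw [bilTerms_list_left]
  refine congrArg List.sum (List.map_congr_left fun x _ => ?_)
  rw [bilTerms_list_right, ← List.sum_map_mul_left]
  simp [mul_assoc]

/-- Grouping a weighted sum by degree. -/
theorem sum_by_degree {α : Type*} (l : List α) (deg : α → ℕ) (f : α → F) (t : F) (N : ℕ)
    (h : ∀ x ∈ l, deg x < N) :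
    (l.map fun x => t ^ deg x * f x).sum =
      ∑ k ∈ Finset.range N, t ^ k * ((l.filter fun x => decide (deg x = k)).map f).sum := by
  induction l with
  | nil => simp
  | cons a l ih =>
    have ha : deg a < N := h a List.mem_cons_self
    rw [List.map_cons, List.sum_cons, ih fun x hx => h x (List.mem_cons_of_mem _ hx)]
    have : ∀ k, t ^ k * (((a :: l).filter fun x => decide (deg x = k)).map f).sum =
        (if deg a = k then t ^ k * f a else 0) +
          t ^ k * ((l.filter fun x => decide (deg x = k)).map f).sum := by
      intro k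
      by_cases hk : deg a = k <;> simp [hk, mul_add]
    simp only [this, Finset.sum_add_distrib, Finset.sum_ite_eq, Finset.mem_range, ha, if_true]

end CfsgLib.ChevClassical
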