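import Cfsg.Agent.ChevClassical.Generation
import Cfsg.Agent.ChevClassical.Sparse
import Cfsg.Prelude.Def_ChevStructure

/-!
# A Chevalley group as a projective orthogonal group

`ModelData` describes the adjoint representation of a `ChevalleyDatum` inside the exterior square
of a split orthogonal space: each coordinate is an integral bilinear form evaluated on the images
of basis vectors.  `ModelOk` is decidable; it gives `D.group F ≃* PΩ` over every field.
-/

set_option autoImplicit false
set_option linter.unusedSectionVars false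
set_option linter.unusedSimpArgs false
set_option linter.unusedVariables false

namespace CfsgLib.ChevClassical

open Cfsg.Lie Matrix

/-- The list of all coordinates. -/
def allIdx (D : ChevalleyDatum) : List D.Idx :=
  (List.finRange D.rank).map Sum.inl ++ (List.finRange D.nroots).map Sum.inr

theorem mem_allIdx {D : ChevalleyDatum} (a : D.Idx) : a ∈ allIdx D := by
  rcases a with i | r <;> simp [allIdx]

/-- The coefficient of `t^k` in an entry of `x_r(t)`. -/
def xcoef (D : ChevalleyDatum) (r : Fin D.nroots) (k : ℕ) (row col : D.Idx) : ℤ :=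
  match col with
  | Sum.inl i =>
    (match row with
      | Sum.inl i' => if i' = i ∧ k = 0 then 1 else 0
      | Sum.inr u => if u = r ∧ k = 1 then -((D.cartanSR.getD i.val #[]).getD r.val 0) else 0)
  | Sum.inr s =>
    if s = r then
      (match row with | Sum.inr u => if u = r ∧ k = 0 then 1 else 0 | Sum.inl _ => 0)
    else if s.val = D.negIdx.getD r.val 0 then
      (match row with
        | Sum.inl i => if k = 1 then (D.coroot.getD r.val #[]).getD i.val 0 else 0
        | Sum.inr u => if u = s then (if k = 0 then 1 else 0)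
            else if u = r ∧ k = 2 then -1 else 0)
    else
      (match row with
        | Sum.inl _ => 0
        | Sum.inr u => (if u = s ∧ k = 0 then 1 else 0) +
            (((D.chainCoeff r.val s.val u.val).filter fun km => decide (km.1 = k)).map
              fun km => km.2).sum)

/-- All chains at every root have degree at most two. -/
def chainsShort (D : ChevalleyDatum) : Bool :=
  (List.range D.nroots).all fun r =>
    (D.chain.getD r #[]).toList.all fun e => decide (e.2.toList.length < 3)

theorem chainCoeff_lt {D : ChevalleyDatum} (h : chainsShort D = true) {r : ℕ} (hr : r < D.nroots)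
    (s u : ℕ) : ∀ km ∈ D.chainCoeff r s u, km.1 < 3 := by
  intro km hkm
  unfold ChevalleyDatum.chainCoeff at hkm
  simp only [List.mem_flatMap, List.mem_filter, List.mem_map, decide_eq_true_eq] at hkm
  obtain ⟨e, ⟨he, -⟩, ⟨⟨p, k⟩, ⟨hp, -⟩, rfl⟩⟩ := hkm
  simp only [chainsShort, List.all_eq_true, List.mem_range, decide_eq_true_eq] at h
  have hlen := h r hr e he
  obtain ⟨hk, -⟩ := List.getElem?_eq_some_iff.mp (List.mem_zipIdx_iff_getElem?.mp hp)
  show k + 1 < 3
  simp only at hk
  have hm : k < e.2.toList.length := hk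
  have : p ∈ e.2.toList := List.mem_of_getElem? (List.mem_zipIdx_iff_getElem?.mp hp)
  by_contra hc
  have hk2 : k = e.2.toList.length - 1 := by omega
  omega

theorem xMat_eq_sum {D : ChevalleyDatum} {F : Type*} [Field F] (h : chainsShort D = true)
    (r : Fin D.nroots) (t : F) (row col : D.Idx) :
    D.xMat F r t row col = ∑ k ∈ Finset.range 3, t ^ k * (xcoef D r k row col : F) := by
  simp only [ChevalleyDatum.xMat, Matrix.of_apply, Finset.sum_range_succ, Finset.sum_range_zero]
  rcases col with i | s <;> rcases row with i' | u <;> simp only [xcoef]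
  · split_ifs <;> simp_all
  · split_ifs <;> simp_all <;> ring
  · split_ifs <;> simp_all <;> ring
  · by_cases h1 : s = r
    · simp only [h1, if_true]; split_ifs <;> simp_all
    · by_cases h2 : (s : ℕ) = D.negIdx.getD r 0
      · simp only [if_neg h1, if_pos h2]; split_ifs <;> simp_all <;> ring
      · simp only [if_neg h1, if_neg h2, Int.cast_add, mul_add]
        have hc : ((D.chainCoeff r s u).map fun km => ((km.2 : ℤ) : F) * t ^ km.1).sum =
            ∑ k ∈ Finset.range 3, t ^ k *
              (((((D.chainCoeff r s u).filter fun km => decide (km.1 = k)).map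
                fun km => km.2).sum : ℤ) : F) := by
          rw [show (fun km : ℕ × ℤ => ((km.2 : ℤ) : F) * t ^ km.1) =
              fun km => t ^ km.1 * (km.2 : F) from funext fun km => mul_comm _ _,
            sum_by_degree _ Prod.fst (fun km : ℕ × ℤ => (km.2 : F)) t 3
              (chainCoeff_lt h r.2 _ _)]
          refine Finset.sum_congr rfl fun k _ => ?_
          congr 1
          induction ((D.chainCoeff r s u).filter fun km => decide (km.1 = k)) with
          | nil => simp
          | cons a l ih => simp [ih]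
        rw [hc, Finset.sum_range_succ, Finset.sum_range_succ, Finset.sum_range_succ,
          Finset.sum_range_zero]
        by_cases h3 : u = s <;> simp [h3] <;> ring

variable {ι : Type} [Fintype ι] [DecidableEq ι] (Φ : Frame ι)

/-- The matrix of the bilinear form with `β(v, v) = Q v`. -/
def Frame.beta (i j : ι) : ℤ := if Φ.first i = true ∧ Φ.mate i = j then 1 else 0

variable {F : Type*} [Field F]

theorem sum_beta (A : ι → ι → F) :
    ∑ i, ∑ j, (Φ.beta i j : F) * A i j = ∑ i, if Φ.first i then A i (Φ.mate i) else 0 := by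
  refine Finset.sum_congr rfl fun i _ => ?_
  unfold Frame.beta
  rcases hf : Φ.first i with _ | _
  · simp
  · rw [Finset.sum_eq_single (Φ.mate i) (fun b _ hb => by simp [Ne.symm hb]) (by simp)]
    simp

/-- Columns of the Eichler map of `(p₀, s t δ q₀)` as graded sparse vectors. -/
def xcol (Φ : Frame ι) (p0 q0 : ι) (s : ℤ) (p : ι) : List (ℕ × ℤ × ι) :=
  [(0, 1, p)] ++ (if p = Φ.mate p0 then [(1, s, q0)] else []) ++
    (if p = Φ.mate q0 then [(1, -s * (if Φ.mate q0 = q0 then 2 else 1), p0)] else []) ++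
    (if p = Φ.mate p0 ∧ Φ.mate q0 = q0 then [(2, -1, p0)] else [])

theorem xcol_deg (p0 q0 : ι) (s : ℤ) (p : ι) : ∀ e ∈ xcol Φ p0 q0 s p, e.1 < 3 := by
  intro e he
  simp only [xcol, List.mem_append, List.mem_singleton] at he
  rcases he with ((rfl | he) | he) | he
  · omega
  all_goals
    split_ifs at he <;> simp at he <;> subst he <;> simp

theorem eich_xcol {p0 q0 : ι} (hp : Φ.mate p0 ≠ p0) (hq : q0 ≠ Φ.mate p0) (s : ℤ)
    (hs : s * s = 1) (t : F) (p : ι) :
    Φ.eichFun p0 (((s : F) * t) • dlt q0) (dlt p) =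
      ((xcol Φ p0 q0 s p).map fun e => ((e.2.1 : F) * t ^ e.1) • (dlt e.2.2 : ι → F)).sum := by
  have hs' : (s : F) * s = 1 := by rw [← Int.cast_mul, hs, Int.cast_one]
  have hQ : Φ.Q F (((s : F) * t) • dlt q0) = if Φ.mate q0 = q0 then t ^ 2 else 0 := by
    rw [Φ.Q_smul, show (s : F) * t * ((s : F) * t) = (s * s) * t ^ 2 by ring, hs', one_mul]
    split
    · next h => rw [Φ.Q_dlt_fixed h, mul_one]
    · next h => rw [Φ.Q_dlt h, mul_zero]
  have hB : Φ.B (dlt q0) (dlt p) =
      if p = Φ.mate q0 then (((if Φ.mate q0 = q0 then 2 else 1 : ℤ)) : F) else 0 := by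
    by_cases h : Φ.mate q0 = q0
    · rw [Φ.B_dlt_fixed h, h]
      rcases eq_or_ne p q0 with rfl | hpq <;> simp [dlt, h, *]
    · rw [Φ.B_dlt h]
      rcases eq_or_ne p (Φ.mate q0) with rfl | hpq
      · simp [dlt, h]
      · simp [dlt, hpq, hpq.symm]
  simp only [Frame.eichFun, Φ.B_smul_left, hQ, hB, xcol, List.map_append, List.sum_append,
    List.map_cons, List.map_nil, List.sum_cons, List.sum_nil, add_zero, Int.cast_one, pow_zero,
    one_mul, one_smul]
  rcases eq_or_ne p (Φ.mate p0) with rfl | h1
  · by_cases h2 : Φ.mate p0 = Φ.mate q0 <;> by_cases h3 : Φ.mate q0 = q0 <;>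
      simp [dlt, h2, h3, hq, hq.symm] <;> module
  · have : (dlt p : ι → F) (Φ.mate p0) = 0 := by simp [dlt, h1.symm]
    rw [this, if_neg h1, if_neg (show ¬(p = Φ.mate p0 ∧ Φ.mate q0 = q0) from fun h => h1 h.1)]
    by_cases h2 : p = Φ.mate q0
    · by_cases h3 : Φ.mate q0 = q0 <;> simp [h2, h3] <;> module
    · rw [if_neg h2, if_neg h2]
      simp

/-- The data of a model. -/
structure ModelData (D : ChevalleyDatum) (ι : Type) where
  P : D.Idx → Terms ι
  s : D.Idx → ℤ
  T : D.Idx → Terms ι
  K : D.Idx → D.Idx → ℤ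
  root : Fin D.nroots → ι × ι × ℤ
  xterm : Fin D.nroots → D.Idx → List (ℕ × ℤ × D.Idx)
  lam : ι → ι → List (ℤ × D.Idx) × ℤ

variable {D : ChevalleyDatum} (md : ModelData D ι)

/-- The graded defect terms at a root and a column. -/
def ModelData.defect (r : Fin D.nroots) (b : D.Idx) : List (ℕ × (ℤ × ι × ι)) :=
  ((md.T b).flatMap fun T =>
    (xcol Φ (md.root r).1 (md.root r).2.1 (md.root r).2.2 T.2.1).flatMap fun x =>
      (xcol Φ (md.root r).1 (md.root r).2.1 (md.root r).2.2 T.2.2).map fun y =>
        (x.1 + y.1, (T.1 * x.2.1 * y.2.1, x.2.2, y.2.2))) ++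
  (md.xterm r b).flatMap fun e => (md.T e.2.2).map fun T => (e.1, (-e.2.1 * T.1, T.2.1, T.2.2))

/-- The defect in one degree. -/
def ModelData.defectAt (r : Fin D.nroots) (b : D.Idx) (k : ℕ) : Terms ι :=
  ((md.defect Φ r b).filter fun e => decide (e.1 = k)).map fun e => e.2

/-- The integer pairing with `β`. -/
def pairBeta (L : Terms ι) : ℤ := (L.map fun e => e.1 * Φ.beta e.2.1 e.2.2).sum

/-- The conditions on a model. -/
structure ModelOk : Prop where
  short : chainsShort D = true
  pSym : ∀ a ∈ allIdx D, ∀ i j : ι,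
    aggAt (md.P a) i j + aggAt (md.P a) j i = md.s a * (Φ.beta i j + Φ.beta j i) ∧
    aggAt (md.P a) i i = md.s a * Φ.beta i i
  one : ∀ a ∈ allIdx D, ∀ b ∈ allIdx D,
    ((md.T b).map fun e => e.1 * aggAt (md.P a) e.2.1 e.2.2).sum - md.K a b =
      if a = b then 1 else 0
  root_ok : ∀ r : Fin D.nroots, Φ.mate (md.root r).1 ≠ (md.root r).1 ∧
    (md.root r).2.1 ≠ (md.root r).1 ∧ (md.root r).2.1 ≠ Φ.mate (md.root r).1 ∧
    (md.root r).2.2 * (md.root r).2.2 = 1
  xterm_deg : ∀ r : Fin D.nroots, ∀ b ∈ allIdx D, ∀ e ∈ md.xterm r b, e.1 < 3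
  xterm_eq : ∀ r : Fin D.nroots, ∀ a ∈ allIdx D, ∀ b ∈ allIdx D, ∀ k < 3,
    xcoef D r k a b =
      (((md.xterm r b).filter fun e => decide (e.1 = k) && decide (e.2.2 = a)).map
        fun e => e.2.1).sum
  defect_sym : ∀ r : Fin D.nroots, ∀ b ∈ allIdx D, ∀ k < 5, ∀ e ∈ md.defectAt Φ r b k,
    aggAt (md.defectAt Φ r b k) e.2.1 e.2.2 = aggAt (md.defectAt Φ r b k) e.2.2 e.2.1
  defect_const : ∀ r : Fin D.nroots, ∀ b ∈ allIdx D, ∀ k < 5, ∀ a ∈ allIdx D,
    md.s a * pairBeta Φ (md.defectAt Φ r b k) = (if k = 0 then md.K a b else 0) -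
      (((md.xterm r b).filter fun e => decide (e.1 = k)).map
        fun e => e.2.1 * md.K a e.2.2).sum
  cover : ∀ p q : ι, Φ.mate p ≠ p → q ≠ p → q ≠ Φ.mate p → ∃ r : Fin D.nroots,
    ∃ s ∈ ([1, -1] : List ℤ), ∀ col i : ι, ∀ k < 3,
      (((xcol Φ p q s col).filter fun e => decide (e.1 = k) && decide (e.2.2 = i)).map
        fun e => e.2.1).sum =
      (((xcol Φ (md.root r).1 (md.root r).2.1 (md.root r).2.2 col).filter
        fun e => decide (e.1 = k) && decide (e.2.2 = i)).map fun e => e.2.1).sum
  minor : ∀ i j x y : ι, i ≠ j →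
    ((md.lam i j).1.map fun l => l.1 * aggAt (md.P l.2) x y).sum =
      ((if x = i ∧ y = j then 1 else 0) - if x = j ∧ y = i then 1 else 0) +
        (md.lam i j).2 * (Φ.beta x y + Φ.beta y x)
  single : ∀ p q : ι, q ≠ p → q ≠ Φ.mate p → ∃ b ∈ allIdx D, ∃ c ∈ ([1, -1] : List ℤ),
    md.T b = [(c, p, q)] ∨ md.T b = [(c, q, p)]
  two : ∀ p, Φ.mate p ≠ p → ∃ q, Φ.mate q ≠ q ∧ q ≠ p ∧ q ≠ Φ.mate p
  partners : ∀ p : ι, ∃ q q' : ι, q ≠ q' ∧ (q ≠ p ∧ q ≠ Φ.mate p) ∧ q' ≠ p ∧ q' ≠ Φ.mate p
  common : ∀ p r : ι, ∃ q : ι, (q ≠ p ∧ q ≠ Φ.mate p) ∧ q ≠ r ∧ q ≠ Φ.mate r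

variable {md Φ} (h : ModelOk Φ md)

/-- The bilinear values on the columns of an isometry. -/
def colForm (md : ModelData D ι) {Φ : Frame ι} (g : Φ.O F) (a : D.Idx) (p q : ι) : F :=
  bilTerms (md.P a) (app g (dlt p)) (app g (dlt q))

/-- The adjoint matrix of an isometry. -/
def adjMat (md : ModelData D ι) {Φ : Frame ι} (g : Φ.O F) : Matrix D.Idx D.Idx F :=
  Matrix.of fun a b => pairTerms (md.T b) (colForm md g a) - (md.K a b : F)

include h

theorem bil_alt (a : D.Idx) (u w : ι → F) :
    bilTerms (md.P a) u w + bilTerms (md.P a) w u = (md.s a : F) * Φ.B u w ∧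
    bilTerms (md.P a) u u = (md.s a : F) * Φ.Q F u := by
  have hp := h.pSym a (mem_allIdx a)
  have hA : ∀ x y : ι → F, ∑ i, ∑ j, (aggAt (md.P a) i j : F) * (x i * y j) =
      (md.s a : F) * (∑ i, if Φ.first i then x i * y (Φ.mate i) else 0) +
        ∑ i, ∑ j, ((aggAt (md.P a) i j - md.s a * Φ.beta i j : ℤ) : F) * (x i * y j) := by
    intro x y
    rw [← sum_beta Φ fun i j => x i * y j, Finset.mul_sum, ← Finset.sum_add_distrib]
    refine Finset.sum_congr rfl fun i _ => ?_
    rw [Finset.mul_sum, ← Finset.sum_add_distrib]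
    refine Finset.sum_congr rfl fun j _ => ?_
    push_cast
    ring
  constructor
  · rw [bilTerms, bilTerms, pairTerms_eq_sum, pairTerms_eq_sum, hA, hA]
    have halt : ∑ i, ∑ j, ((aggAt (md.P a) i j - md.s a * Φ.beta i j : ℤ) : F) * (u i * w j) +
        ∑ i, ∑ j, ((aggAt (md.P a) i j - md.s a * Φ.beta i j : ℤ) : F) * (w i * u j) = 0 := by
      conv_lhs => arg 2; rw [Finset.sum_comm]
      rw [← Finset.sum_add_distrib]
      refine Finset.sum_eq_zero fun i _ => ?_
      rw [← Finset.sum_add_distrib]
      refine Finset.sum_eq_zero fun j _ => ?_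
      rw [mul_comm (w j) (u i), ← add_mul, ← Int.cast_add]
      have e : aggAt (md.P a) i j - md.s a * Φ.beta i j +
          (aggAt (md.P a) j i - md.s a * Φ.beta j i) = 0 := by linear_combination (hp i j).1
      rw [e, Int.cast_zero, zero_mul]
    have hB : Φ.B u w = (∑ i, if Φ.first i then u i * w (Φ.mate i) else 0) +
        ∑ i, if Φ.first i then w i * u (Φ.mate i) else 0 := by
      rw [← Finset.sum_add_distrib]
      refine Finset.sum_congr rfl fun i _ => ?_
      split <;> ring
    rw [hB, mul_add]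
    linear_combination halt
  · rw [bilTerms, pairTerms_eq_sum, hA]
    have halt : ∑ i, ∑ j, ((aggAt (md.P a) i j - md.s a * Φ.beta i j : ℤ) : F) * (u i * u j) = 0 := by
      rw [Finset.sum_congr rfl fun i _ => Finset.sum_congr rfl fun j _ =>
        mul_comm ((_ : ℤ) : F) (u i * u j)]
      refine sum_sym_alt (fun i j => u i * u j) _ (fun i j => mul_comm _ _) (fun i j => ?_)
        fun i => ?_
      · rw [← Int.cast_add]
        have e : aggAt (md.P a) i j - md.s a * Φ.beta i j +
            (aggAt (md.P a) j i - md.s a * Φ.beta j i) = 0 := by linear_combination (hp i j).1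
        rw [e, Int.cast_zero]
      · rw [(hp i i).2, sub_self, Int.cast_zero]
    rw [halt, add_zero]
    rfl

theorem pair_colForm (g : Φ.O F) (a : D.Idx) (L : Terms ι)
    (hL : ∀ e ∈ L, aggAt L e.2.1 e.2.2 = aggAt L e.2.2 e.2.1) :
    pairTerms L (colForm md g a) = ((md.s a * pairBeta Φ L : ℤ) : F) := by
  have hsym : ∀ i j, aggAt L i j = aggAt L j i := by
    intro i j
    by_cases h1 : ∃ e ∈ L, e.2.1 = i ∧ e.2.2 = j
    · obtain ⟨e, he, rfl, rfl⟩ := h1; exact hL e he
    · by_cases h2 : ∃ e ∈ L, e.2.1 = j ∧ e.2.2 = i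
      · obtain ⟨e, he, rfl, rfl⟩ := h2; exact (hL e he).symm
      · unfold aggAt
        rw [List.filter_eq_nil_iff.mpr (by simpa using fun e he e1 e2 => h1 ⟨e, he, e1, e2⟩),
          List.filter_eq_nil_iff.mpr (by simpa using fun e he e1 e2 => h2 ⟨e, he, e1, e2⟩)]
  have e1 : colForm md g a = fun i j => (md.s a : F) * (Φ.beta i j : F) +
      (colForm md g a i j - (md.s a : F) * (Φ.beta i j : F)) := by
    funext i j; ring
  rw [e1, pairTerms_add, pairTerms_smul, pairTerms_symm_alt L hsym
    (fun i j => colForm md g a i j - (md.s a : F) * (Φ.beta i j : F))]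
  · simp only [add_zero, Int.cast_mul]
    congr 1
    simp only [pairTerms, pairBeta]
    induction L with
    | nil => simp
    | cons x xs _ =>
      clear hL hsym e1
      induction (x :: xs) with
      | nil => simp
      | cons y ys ih => simp [ih]
  · intro i j
    have := (bil_alt h a (app g (dlt i)) (app g (dlt j))).1
    rw [B_app] at this
    have hb : Φ.B (dlt i : ι → F) (dlt j) = (Φ.beta i j : F) + (Φ.beta j i : F) := by
      unfold Frame.beta
      rw [Frame.B]
      have : ∀ p, (if Φ.first p then (dlt i : ι → F) p * dlt j (Φ.mate p) +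
          (dlt i : ι → F) (Φ.mate p) * dlt j p else 0) =
          (if p = i then (if Φ.first p = true ∧ Φ.mate p = j then (1 : F) else 0) else 0) +
          (if p = j then (if Φ.first p = true ∧ Φ.mate p = i then (1 : F) else 0) else 0) := by
        intro p
        rcases hf : Φ.first p with _ | _
        · simp
        · by_cases a1 : p = i <;> by_cases a2 : p = j <;> by_cases a3 : Φ.mate p = i <;>
            by_cases a4 : Φ.mate p = j <;> simp [dlt, a1, a2, a3, a4] <;> simp_all
      rw [Finset.sum_congr rfl fun p _ => this p, Finset.sum_add_distrib,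
        Finset.sum_ite_eq', Finset.sum_ite_eq']
      simp
    simp only [colForm]
    rw [hb] at this
    linear_combination this
  · intro i
    have := (bil_alt h a (app g (dlt i)) (app g (dlt i))).2
    rw [Q_app] at this
    simp only [colForm]
    rw [this]
    have : Φ.Q F (dlt i) = (Φ.beta i i : F) := by
      unfold Frame.beta
      by_cases hi : Φ.mate i = i
      · simp [Φ.Q_dlt_fixed hi, Φ.first_fixed i hi, hi]
      · simp [Φ.Q_dlt hi, hi]
    rw [this, sub_self]

theorem adjMat_one : adjMat md (1 : Φ.O F) = 1 := by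
  ext a b
  simp only [adjMat, Matrix.of_apply, Matrix.one_apply]
  have hc : colForm md (1 : Φ.O F) a = fun p q => (aggAt (md.P a) p q : F) := by
    funext p q
    simp only [colForm, app_one, bilTerms, pairTerms_eq_sum]
    rw [Finset.sum_eq_single p (fun i _ hi => by simp [dlt, hi]) (by simp),
      Finset.sum_eq_single q (fun j _ hj => by simp [dlt, hj]) (by simp)]
    simp [dlt]
  rw [hc]
  have := h.one a (mem_allIdx a) b (mem_allIdx b)
  have e : pairTerms (md.T b) (fun p q => (aggAt (md.P a) p q : F)) =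
      ((((md.T b).map fun e => e.1 * aggAt (md.P a) e.2.1 e.2.2).sum : ℤ) : F) := by
    simp only [pairTerms]
    induction md.T b with
    | nil => simp
    | cons x xs ih => simp [ih]
  rw [e, ← Int.cast_sub, this]
  split <;> simp

/-- The root element of the `r`-th root. -/
def rootO (r : Fin D.nroots) (t : F) : Φ.O F :=
  eichO Φ (h.root_ok r).1 ((((md.root r).2.2 : F) * t) • dlt (md.root r).2.1)
    (by simp [dlt, (h.root_ok r).2.2.1.symm])

theorem rootO_mem (r : Fin D.nroots) (t : F) : rootO h r t ∈ rootSub Φ F :=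
  eich_mem_rootSub Φ _ _ _

theorem x_entry (r : Fin D.nroots) (t : F) (a b : D.Idx) :
    D.x F r t a b =
      (((md.xterm r b).filter fun e => decide (e.2.2 = a)).map
        fun e => (e.2.1 : F) * t ^ e.1).sum := by
  rw [ChevalleyDatum.x, dif_pos r.2, xMat_eq_sum h.short]
  rw [show (fun e : ℕ × ℤ × D.Idx => (e.2.1 : F) * t ^ e.1) =
      fun e => t ^ e.1 * (e.2.1 : F) from funext fun e => mul_comm _ _,
    sum_by_degree _ Prod.fst (fun e : ℕ × ℤ × D.Idx => (e.2.1 : F)) t 3
      (fun e he => h.xterm_deg r b (mem_allIdx b) e (List.mem_of_mem_filter he))]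
  refine Finset.sum_congr rfl fun k hk => ?_
  rw [h.xterm_eq r a (mem_allIdx a) b (mem_allIdx b) k (Finset.mem_range.mp hk), List.filter_filter]
  congr 1
  induction ((md.xterm r b).filter fun e => decide (e.1 = k) && decide (e.2.2 = a)) with
  | nil => simp
  | cons x xs ih => simp [ih]

theorem sum_mul_x (r : Fin D.nroots) (t : F) (b : D.Idx) (f : D.Idx → F) :
    ∑ a, f a * D.x F r t a b =
      ((md.xterm r b).map fun e => (e.2.1 : F) * t ^ e.1 * f e.2.2).sum := by
  simp only [x_entry h]
  induction md.xterm r b with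
  | nil => simp
  | cons x xs ih =>
    rw [List.map_cons, List.sum_cons, ← ih]
    have : ∀ a, f a * (((x :: xs).filter fun e => decide (e.2.2 = a)).map
        fun e => (e.2.1 : F) * t ^ e.1).sum =
        (if x.2.2 = a then (x.2.1 : F) * t ^ x.1 * f a else 0) +
          f a * ((xs.filter fun e => decide (e.2.2 = a)).map
            fun e => (e.2.1 : F) * t ^ e.1).sum := by
      intro a
      by_cases hx : x.2.2 = a <;> simp [hx] <;> ring
    simp only [this, Finset.sum_add_distrib, Finset.sum_ite_eq, Finset.mem_univ, if_true]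

theorem adjMat_mul_root (g : Φ.O F) (r : Fin D.nroots) (t : F) :
    adjMat md (g * rootO h r t) = adjMat md g * D.x F r t := by
  ext a b
  rw [Matrix.mul_apply, sum_mul_x h r t b fun a' => adjMat md g a a']
  simp only [adjMat, Matrix.of_apply]
  set X := fun p => xcol Φ (md.root r).1 (md.root r).2.1 (md.root r).2.2 p with hX
  have hcol : ∀ p, app (g * rootO h r t) (dlt p) =
      ((X p).map fun e => ((e.2.1 : F) * t ^ e.1) • app g (dlt e.2.2)).sum := by
    intro p
    rw [app_mul, rootO, app_eichO,
      eich_xcol Φ (h.root_ok r).1 (h.root_ok r).2.2.1 _ (h.root_ok r).2.2.2]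
    simp only [hX]
    induction xcol Φ (md.root r).1 (md.root r).2.1 (md.root r).2.2 p with
    | nil => simp [app]
    | cons x xs ih => simp [app_add, app_smul, ih]
  have hdeg : ∀ e ∈ md.defect Φ r b, e.1 < 5 := by
    intro e he
    simp only [ModelData.defect, List.mem_append, List.mem_flatMap, List.mem_map] at he
    rcases he with ⟨T, -, x, hx, y, hy, rfl⟩ | ⟨x, hx, T, -, rfl⟩
    · have := xcol_deg Φ _ _ _ _ x hx
      have := xcol_deg Φ _ _ _ _ y hy
      show x.1 + y.1 < 5
      omega
    · have := h.xterm_deg r b (mem_allIdx b) x hx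
      show x.1 < 5
      omega
  have hall : ((md.defect Φ r b).map fun e =>
      t ^ e.1 * ((e.2.1 : F) * colForm md g a e.2.2.1 e.2.2.2)).sum =
      pairTerms (md.T b) (colForm md (g * rootO h r t) a) -
      ((md.xterm r b).map fun e => (e.2.1 : F) * t ^ e.1 *
        pairTerms (md.T e.2.2) (colForm md g a)).sum := by
    simp only [ModelData.defect, List.map_append, List.sum_append, List.map_flatMap, List.map_map]
    rw [sub_eq_add_neg]
    congr 1
    · simp only [pairTerms, colForm, hcol, bilTerms_sum_sum, List.flatMap, List.sum_flatten,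
        List.map_map, ← hX]
      refine congrArg List.sum (List.map_congr_left fun T _ => ?_)
      simp only [Function.comp_apply, List.sum_flatten, List.map_map, ← List.sum_map_mul_left]
      refine congrArg List.sum (List.map_congr_left fun x _ => ?_)
      simp only [Function.comp_apply, List.map_map, ← List.sum_map_mul_left]
      refine congrArg List.sum (List.map_congr_left fun y _ => ?_)
      simp only [Function.comp_apply]
      push_cast
      rw [pow_add]
      ring
    · simp only [List.flatMap, List.sum_flatten, List.map_map]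
      rw [← neg_one_mul (List.sum _), ← List.sum_map_mul_left]
      refine congrArg List.sum (List.map_congr_left fun x _ => ?_)
      simp only [Function.comp_apply, List.map_map, pairTerms, ← List.sum_map_mul_left]
      refine congrArg List.sum (List.map_congr_left fun y _ => ?_)
      simp only [Function.comp_apply]
      push_cast
      ring
  rw [sum_by_degree _ Prod.fst (fun e : ℕ × (ℤ × ι × ι) =>
    (e.2.1 : F) * colForm md g a e.2.2.1 e.2.2.2) t 5 hdeg] at hall
  have hk : ∀ k ∈ Finset.range 5, t ^ k *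
      (((md.defect Φ r b).filter fun e => decide (e.1 = k)).map
        fun e => (e.2.1 : F) * colForm md g a e.2.2.1 e.2.2.2).sum =
      t ^ k * (((if k = 0 then md.K a b else 0) -
        (((md.xterm r b).filter fun e => decide (e.1 = k)).map
          fun e => e.2.1 * md.K a e.2.2).sum : ℤ) : F) := by
    intro k hk
    rw [Finset.mem_range] at hk
    rw [← h.defect_const r b (mem_allIdx b) k hk a (mem_allIdx a),
      ← pair_colForm h g a _ (h.defect_sym r b (mem_allIdx b) k hk)]
    simp only [pairTerms, ModelData.defectAt, List.map_map]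
    rfl
  rw [Finset.sum_congr rfl hk] at hall
  have hR : ∑ k ∈ Finset.range 5, t ^ k * (((if k = 0 then md.K a b else 0) -
        (((md.xterm r b).filter fun e => decide (e.1 = k)).map
          fun e => e.2.1 * md.K a e.2.2).sum : ℤ) : F) =
      (md.K a b : F) -
        ((md.xterm r b).map fun e => (e.2.1 : F) * t ^ e.1 * (md.K a e.2.2 : F)).sum := by
    simp only [Int.cast_sub, mul_sub, Finset.sum_sub_distrib]
    congr 1
    · rw [Finset.sum_eq_single 0 (fun k _ hk => by simp [hk]) (by simp)]; simp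
    · rw [show (fun e : ℕ × ℤ × D.Idx => (e.2.1 : F) * t ^ e.1 * (md.K a e.2.2 : F)) =
          fun e => t ^ e.1 * ((e.2.1 : F) * (md.K a e.2.2 : F)) from funext fun e => by ring,
        sum_by_degree _ Prod.fst (fun e : ℕ × ℤ × D.Idx => (e.2.1 : F) * (md.K a e.2.2 : F)) t 5
          (fun e he => (h.xterm_deg r b (mem_allIdx b) e he).trans (by omega))]
      refine Finset.sum_congr rfl fun k _ => ?_
      congr 1
      induction ((md.xterm r b).filter fun e => decide (e.1 = k)) with
      | nil => simp
      | cons x xs ih => simp [ih]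
  rw [hR] at hall
  have e : ((md.xterm r b).map fun e => (e.2.1 : F) * t ^ e.1 *
      (pairTerms (md.T e.2.2) (colForm md g a) - (md.K a e.2.2 : F))).sum =
      ((md.xterm r b).map fun e => (e.2.1 : F) * t ^ e.1 *
        pairTerms (md.T e.2.2) (colForm md g a)).sum -
      ((md.xterm r b).map fun e => (e.2.1 : F) * t ^ e.1 * (md.K a e.2.2 : F)).sum := by
    induction md.xterm r b with
    | nil => simp
    | cons x xs ih => simp only [List.map_cons, List.sum_cons, ih]; ring
  rw [e]
  linear_combination -hall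

theorem adjMat_root (r : Fin D.nroots) (t : F) : adjMat md (rootO h r t) = D.x F r t := by
  conv_lhs => rw [← one_mul (rootO h r t)]
  rw [adjMat_mul_root, adjMat_one h, one_mul]

theorem exists_rootO {g : Φ.O F} (hg : g ∈ rootSet Φ F) :
    ∃ (r : Fin D.nroots) (t : F), g = rootO h r t := by
  obtain ⟨p, q, hp, hq, hqp, t, rfl⟩ := hg
  obtain ⟨r, s, hs, hr⟩ := h.cover p q hp hqp hq
  have hs' : s * s = 1 := by
    simp only [List.mem_cons, List.not_mem_nil, or_false] at hs
    rcases hs with rfl | rfl <;> norm_num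
  refine ⟨r, (s : F) * t, ?_⟩
  refine app_ext Φ fun x => ?_
  have key : ∀ col : ι, Φ.eichFun p (t • dlt q : ι → F) (dlt col) =
      Φ.eichFun (md.root r).1 ((((md.root r).2.2 : F) * ((s : F) * t)) • dlt (md.root r).2.1)
        (dlt col) := by
    intro col
    have ht : t = (s : F) * ((s : F) * t) := by
      rw [← mul_assoc, ← Int.cast_mul, hs', Int.cast_one, one_mul]
    conv_lhs => rw [ht]
    rw [eich_xcol Φ hp hq s hs', eich_xcol Φ (h.root_ok r).1 (h.root_ok r).2.2.1 _
      (h.root_ok r).2.2.2]
    funext i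
    have hsum : ∀ L : List (ℕ × ℤ × ι), (∀ e ∈ L, e.1 < 3) →
        (L.map fun e => ((e.2.1 : F) * ((s : F) * t) ^ e.1) • (dlt e.2.2 : ι → F)).sum i =
          ∑ k ∈ Finset.range 3, ((s : F) * t) ^ k *
            ((((L.filter fun e => decide (e.1 = k) && decide (e.2.2 = i)).map
              fun e => e.2.1).sum : ℤ) : F) := by
      intro L hL
      induction L with
      | nil => simp
      | cons x xs ih =>
        have h1 : x.1 < 3 := hL x List.mem_cons_self
        rw [List.map_cons, List.sum_cons, Pi.add_apply,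
          ih fun e he => hL e (List.mem_cons_of_mem _ he)]
        have : ∀ k, ((s : F) * t) ^ k *
            (((((x :: xs).filter fun e => decide (e.1 = k) && decide (e.2.2 = i)).map
              fun e => e.2.1).sum : ℤ) : F) =
            (if x.1 = k then ((((x.2.1 : F) * ((s : F) * t) ^ x.1) • (dlt x.2.2 : ι → F)) i)
              else 0) + ((s : F) * t) ^ k *
            ((((xs.filter fun e => decide (e.1 = k) && decide (e.2.2 = i)).map
              fun e => e.2.1).sum : ℤ) : F) := by
          intro k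
          by_cases hk : x.1 = k <;> by_cases hi : x.2.2 = i <;>
            simp [hk, hi, dlt, Pi.single_apply, Ne.symm, eq_comm] <;> ring
        simp only [this, Finset.sum_add_distrib, Finset.sum_ite_eq, Finset.mem_range, h1, if_true]
    rw [hsum _ (xcol_deg Φ _ _ _ _), hsum _ (xcol_deg Φ _ _ _ _)]
    exact Finset.sum_congr rfl fun k hk => by rw [hr col i k (Finset.mem_range.mp hk)]
  simp only [rootO, app_eichO]
  rw [← funMatrix_mulVec _ (eichFun_add Φ _ _) (eichFun_smul Φ _ _) x,
    ← funMatrix_mulVec _ (eichFun_add Φ _ _) (eichFun_smul Φ _ _) x]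
  congr 1
  ext i col
  exact congrFun (key col) i

theorem adjMat_mul {k : Φ.O F} (hk : k ∈ rootSub Φ F) (g : Φ.O F) :
    adjMat md (g * k) = adjMat md g * adjMat md k := by
  unfold rootSub at hk
  induction hk using Subgroup.closure_induction generalizing g with
  | mem x hx =>
    obtain ⟨r, t, rfl⟩ := exists_rootO h hx
    rw [adjMat_mul_root, adjMat_root]
  | one => rw [mul_one, adjMat_one h, mul_one]
  | mul x y _ _ hx hy => rw [← mul_assoc, hy (g * x), hx g, hy x, mul_assoc]
  | inv x _ hx =>
    have h1 := hx (g * x⁻¹)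
    have h2 := hx x⁻¹
    rw [inv_mul_cancel_right] at h1
    rw [inv_mul_cancel, adjMat_one h] at h2
    rw [h1, mul_assoc, mul_eq_one_comm.mp h2.symm, mul_one]

/-- The homomorphism to matrices. -/
def adjHom : ↥(rootSub Φ F) →* Matrix D.Idx D.Idx F where
  toFun g := adjMat md (g : Φ.O F)
  map_one' := adjMat_one h
  map_mul' g k := adjMat_mul h k.2 g

/-- The homomorphism to the general linear group. -/
def adjGL : ↥(rootSub Φ F) →* GL D.Idx F := (adjHom h).toHomUnits

theorem adjGL_val (g : ↥(rootSub Φ F)) :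
    ((adjGL h g : GL D.Idx F) : Matrix D.Idx D.Idx F) = adjMat md (g : Φ.O F) := rfl

theorem adjGL_range : (adjGL (F := F) h).range = D.group F := by
  have hm : Subgroup.map (adjGL (F := F) h) ⊤ ≤ D.group F := by
    have htop : (⊤ : Subgroup ↥(rootSub Φ F)) =
        Subgroup.closure ((rootSub Φ F).subtype ⁻¹' rootSet Φ F) :=
      (Subgroup.closure_closure_coe_preimage).symm
    rw [htop, MonoidHom.map_closure, Subgroup.closure_le]
    rintro _ ⟨g, hg, rfl⟩
    obtain ⟨r, t, hr⟩ := exists_rootO h (show (g : Φ.O F) ∈ rootSet Φ F from hg)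
    refine Subgroup.subset_closure ⟨r, t, ?_⟩
    rw [adjGL_val, hr, adjMat_root, ChevalleyDatum.x, dif_pos r.2]
  refine le_antisymm (by rw [MonoidHom.range_eq_map]; exact hm) ((Subgroup.closure_le _).mpr ?_)
  rintro g ⟨r, t, hg⟩
  refine ⟨⟨rootO h r t, rootO_mem h r t⟩, Units.ext ?_⟩
  rw [adjGL_val]
  show adjMat md (rootO h r t) = _
  rw [adjMat_root, hg, ChevalleyDatum.x, dif_pos r.2]

theorem scalar_of_adjMat_eq_one {g : Φ.O F} (hg : adjMat md g = 1) :
    ∃ c : F, c * c = 1 ∧ ∀ p, app g (dlt p) = c • dlt p := by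
  have hone := adjMat_one (F := F) h
  have hform : ∀ p q : ι, q ≠ p → q ≠ Φ.mate p → ∀ a,
      colForm md g a p q = colForm md (1 : Φ.O F) a p q := by
    intro p q h1 h2 a
    obtain ⟨b, -, c, hc, hb⟩ := h.single p q h1 h2
    have hc' : (c : F) * c = 1 := by
      simp only [List.mem_cons, List.not_mem_nil, or_false] at hc
      rcases hc with rfl | rfl <;> simp
    have he := congrFun (congrFun (hg.trans hone.symm) a) b
    simp only [adjMat, Matrix.of_apply, sub_left_inj] at he
    rcases hb with hb | hb <;>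
      rw [hb, pairTerms, pairTerms] at he <;>
      simp only [List.map_cons, List.map_nil, List.sum_cons, List.sum_nil, add_zero] at he <;>
      have := congrArg ((c : F) * ·) he <;>
      simp only [← mul_assoc, hc', one_mul] at this
    · exact this
    · have e1 := (bil_alt h a (app g (dlt p)) (app g (dlt q))).1
      have e2 := (bil_alt h a (app (1 : Φ.O F) (dlt p)) (app (1 : Φ.O F) (dlt q))).1
      rw [B_app] at e1 e2
      simp only [colForm] at this ⊢
      linear_combination e1 - e2 - this
  have hmin : ∀ p q : ι, q ≠ p → q ≠ Φ.mate p → ∀ i j, i ≠ j →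
      app g (dlt p) i * app g (dlt q) j - app g (dlt p) j * app g (dlt q) i =
        (dlt p : ι → F) i * dlt q j - (dlt p : ι → F) j * dlt q i := by
    intro p q h1 h2 i j hij
    have hB : Φ.B (dlt p : ι → F) (dlt q) = 0 := by
      by_cases hp : Φ.mate p = p
      · rw [Φ.B_dlt_fixed hp]; simp [dlt, Ne.symm h1]
      · rw [Φ.B_dlt hp]; simp [dlt, Ne.symm h2]
    have key : ∀ k : Φ.O F, app k (dlt p) i * app k (dlt q) j - app k (dlt p) j * app k (dlt q) i =
        ((md.lam i j).1.map fun l => (l.1 : F) * colForm md k l.2 p q).sum := by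
      intro k
      set u := app k (dlt p) with hu
      set w := app k (dlt q) with hw
      have huw : Φ.B u w = 0 := by rw [hu, hw, B_app, hB]
      have hexp : ((md.lam i j).1.map fun l => (l.1 : F) * colForm md k l.2 p q).sum =
          ∑ x, ∑ y, ((((md.lam i j).1.map fun l => l.1 * aggAt (md.P l.2) x y).sum : ℤ) : F) *
            (u x * w y) := by
        simp only [colForm, ← hu, ← hw, bilTerms, pairTerms_eq_sum]
        induction (md.lam i j).1 with
        | nil => simp
        | cons l ls ih =>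
          rw [List.map_cons, List.sum_cons, ih, Finset.mul_sum, ← Finset.sum_add_distrib]
          refine Finset.sum_congr rfl fun x _ => ?_
          rw [Finset.mul_sum, ← Finset.sum_add_distrib]
          refine Finset.sum_congr rfl fun y _ => ?_
          simp only [List.map_cons, List.sum_cons]
          push_cast
          ring
      rw [hexp]
      simp only [h.minor i j _ _ hij, Int.cast_add, Int.cast_sub, Int.cast_mul, add_mul, sub_mul,
        Finset.sum_add_distrib, Finset.sum_sub_distrib]
      have hB' : ∑ x, ∑ y, (Φ.beta x y : F) * (u x * w y) +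
          ∑ x, ∑ y, (Φ.beta y x : F) * (u x * w y) = 0 := by
        conv_lhs => arg 2; rw [Finset.sum_comm]
        rw [sum_beta, sum_beta, ← Finset.sum_add_distrib]
        refine Eq.trans ?_ huw
        refine Finset.sum_congr rfl fun x _ => ?_
        split <;> ring
      have hsplit : ∑ x, ∑ y, ((md.lam i j).2 : F) * ((Φ.beta x y : F) + (Φ.beta y x : F)) *
          (u x * w y) = ((md.lam i j).2 : F) *
          (∑ x, ∑ y, (Φ.beta x y : F) * (u x * w y) + ∑ x, ∑ y, (Φ.beta y x : F) * (u x * w y)) := by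
        rw [← Finset.sum_add_distrib, Finset.mul_sum]
        refine Finset.sum_congr rfl fun x _ => ?_
        rw [← Finset.sum_add_distrib, Finset.mul_sum]
        exact Finset.sum_congr rfl fun y _ => by ring
      rw [hsplit, hB', mul_zero, add_zero]
      congr 1
      · rw [Finset.sum_eq_single i (fun x _ hx => by simp [hx]) (by simp),
          Finset.sum_eq_single j (fun y _ hy => by simp [hy]) (by simp)]
        simp
      · rw [Finset.sum_eq_single j (fun x _ hx => by simp [hx]) (by simp),
          Finset.sum_eq_single i (fun y _ hy => by simp [hy]) (by simp)]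
        simp
    have := key g
    rw [this, List.map_congr_left fun l _ => congrArg ((l.1 : F) * ·) (hform p q h1 h2 l.2),
      ← key 1, app_one, app_one]
  have hsupp : ∀ p q : ι, q ≠ p → q ≠ Φ.mate p → ∀ i, i ≠ p → i ≠ q → app g (dlt p) i = 0 := by
    intro p q h1 h2 i i1 i2
    have e1 := hmin p q h1 h2 p q (Ne.symm h1)
    have e2 := hmin p q h1 h2 i q i2
    have e3 := hmin p q h1 h2 i p i1
    simp [dlt, i1, i2, h1, Ne.symm h1] at e1 e2 e3
    linear_combination (app g (dlt p) p) * e2 - (app g (dlt p) q) * e3 -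
      (app g (dlt p) i) * e1
  have hdiag : ∀ p i, i ≠ p → app g (dlt p) i = 0 := by
    intro p i hi
    obtain ⟨q, q', hne, ⟨a1, a2⟩, b1, b2⟩ := h.partners p
    rcases eq_or_ne i q with rfl | hiq
    · exact hsupp p q' b1 b2 i hi hne
    · exact hsupp p q a1 a2 i hi hiq
  have hval : ∀ p, app g (dlt p) = app g (dlt p) p • dlt p := by
    intro p
    funext i
    rcases eq_or_ne i p with rfl | hi
    · simp [dlt]
    · simp [dlt, hi, hdiag p i hi]
  have hprod : ∀ p q, q ≠ p → q ≠ Φ.mate p →
      app g (dlt p) p * app g (dlt q) q = 1 := by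
    intro p q h1 h2
    have e1 := hmin p q h1 h2 p q (Ne.symm h1)
    rw [hdiag q p (Ne.symm h1), hdiag p q h1] at e1
    simpa [dlt, h1, Ne.symm h1] using e1
  have heq : ∀ p r, app g (dlt p) p = app g (dlt r) r := by
    intro p r
    obtain ⟨q, ⟨a1, a2⟩, b1, b2⟩ := h.common p r
    have e1 := hprod p q a1 a2
    have e2 := hprod r q b1 b2
    linear_combination (app g (dlt r) r) * e1 - (app g (dlt p) p) * e2
  by_cases hne : Nonempty ι
  · obtain ⟨p0⟩ := hne
    obtain ⟨q, -, -, ⟨a1, a2⟩, -, -⟩ := h.partners p0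
    refine ⟨app g (dlt p0) p0, ?_, fun p => by rw [hval p, heq p p0]⟩
    have := hprod p0 q a1 a2
    rwa [heq q p0] at this
  · exact ⟨1, one_mul 1, fun p => absurd ⟨p⟩ hne⟩

theorem adjMat_scalar {g : Φ.O F} {c : F} (hc : c * c = 1)
    (hg : ∀ p, app g (dlt p) = c • dlt p) : adjMat md g = 1 := by
  rw [← adjMat_one (F := F) h]
  ext a b
  simp only [adjMat, Matrix.of_apply]
  congr 2
  funext p q
  simp only [colForm, hg, app_one, bilTerms_smul_left, bilTerms_smul_right, ← mul_assoc, hc, one_mul]

theorem scalar_commute {g : Φ.O F} {c : F} (hg : ∀ p, app g (dlt p) = c • dlt p) (k : Φ.O F) :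
    k * g = g * k := by
  have hx : ∀ x, app g x = c • x := by
    intro x
    conv_lhs => rw [pi_eq_sum_univ' x]
    conv_rhs => rw [pi_eq_sum_univ' x]
    simp only [app, Matrix.mulVec_sum, Matrix.mulVec_smul, Finset.smul_sum]
    refine Finset.sum_congr rfl fun p _ => ?_
    have := hg p
    simp only [app] at this
    rw [this, smul_comm]
  exact app_ext Φ fun x => by rw [app_mul, app_mul, hx, hx, app_smul]

theorem scalar_of_central {g : Φ.O F} (hg : ∀ k ∈ rootSub Φ F, g * k = k * g) :
    ∃ c : F, c * c = 1 ∧ ∀ p, app g (dlt p) = c • dlt p := by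
  have hU : ∀ (p q : ι) (hp : Φ.mate p ≠ p) (hq : Φ.mate q ≠ q), q ≠ p → q ≠ Φ.mate p →
      app g (dlt q) = app g (dlt (Φ.mate p)) (Φ.mate p) • dlt q -
        app g (dlt (Φ.mate p)) (Φ.mate q) • dlt p := by
    intro p q hp hq h1 h2
    have m2 : Φ.mate q ≠ Φ.mate p := fun e => h1 (by rw [← Φ.mate_mate q, e, Φ.mate_mate])
    have hw : (dlt q : ι → F) (Φ.mate p) = 0 := by simp [dlt, Ne.symm h2]
    have e := congrArg (fun k => app k (dlt (Φ.mate p))) (hg _ (eich_mem_rootSub Φ hp _ hw))
    simp only [app_mul, app_eichO] at e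
    have e1 : Φ.eichFun p (dlt q : ι → F) (dlt (Φ.mate p)) = dlt (Φ.mate p) + dlt q := by
      simp [Frame.eichFun, Φ.B_dlt hq, Φ.Q_dlt hq, dlt, m2]
    rw [e1, app_add] at e
    set u := app g (dlt (Φ.mate p))
    rw [Frame.eichFun, Φ.B_dlt hq, Φ.Q_dlt hq, zero_mul, add_zero] at e
    linear_combination (norm := module) e
  have hdiag : ∀ q, Φ.mate q ≠ q → ∀ i, i ≠ q → app g (dlt q) i = 0 := by
    intro q hq i hi
    obtain ⟨p, hp, p1, p2⟩ := h.two q hq
    have a1 : q ≠ Φ.mate p := fun e => p2 (by rw [e, Φ.mate_mate])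
    have b1 : q ≠ Φ.mate (Φ.mate p) := by rw [Φ.mate_mate]; exact Ne.symm p1
    rcases eq_or_ne i p with rfl | hip
    · rw [hU (Φ.mate i) q (Φ.mate_ne hp) hq a1 b1, Φ.mate_mate]
      simp [dlt, hi, Ne.symm hp]
    · rw [hU p q hp hq (Ne.symm p1) a1]
      simp [dlt, hi, hip]
  have heq1 : ∀ p q, Φ.mate p ≠ p → Φ.mate q ≠ q → q ≠ p → q ≠ Φ.mate p →
      app g (dlt q) q = app g (dlt (Φ.mate p)) (Φ.mate p) := by
    intro p q hp hq h1 h2
    rw [hU p q hp hq h1 h2]
    simp [dlt, h1, Ne.symm h1]
  have heq : ∀ p q, Φ.mate p ≠ p → Φ.mate q ≠ q → app g (dlt p) p = app g (dlt q) q := by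
    intro p q hp hq
    by_cases hpq : p = q ∨ p = Φ.mate q
    · obtain ⟨r, hr, r1, r2⟩ := h.two q hq
      have e1 : ∀ x, (x = q ∨ x = Φ.mate q) → app g (dlt x) x = app g (dlt r) r := by
        intro x hx
        have hx' : Φ.mate x ≠ x := by
          rcases hx with rfl | rfl
          · exact hq
          · exact Φ.mate_ne hq
        have := heq1 (Φ.mate r) x (Φ.mate_ne hr) hx'
          (by rcases hx with rfl | rfl
              · exact fun e => r2 (by rw [e, Φ.mate_mate])
              · exact fun e => r1 (by rw [← Φ.mate_mate r, ← e, Φ.mate_mate]))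
          (by rw [Φ.mate_mate]
              rcases hx with rfl | rfl
              · exact Ne.symm r1
              · exact Ne.symm r2)
        rwa [Φ.mate_mate] at this
      rw [e1 p hpq, e1 q (Or.inl rfl)]
    · simp only [not_or] at hpq
      have := heq1 (Φ.mate q) p (Φ.mate_ne hq) hp hpq.2 (by rw [Φ.mate_mate]; exact hpq.1)
      rwa [Φ.mate_mate] at this
  by_cases hex : ∃ p0, Φ.mate p0 ≠ p0
  · obtain ⟨p0, hp0⟩ := hex
    set c := app g (dlt p0) p0 with hc
    have hv : ∀ q, Φ.mate q ≠ q → app g (dlt q) = c • dlt q := by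
      intro q hq
      funext i
      rcases eq_or_ne i q with rfl | hi
      · rw [hc, heq p0 i hp0 hq]; simp [dlt]
      · simp [dlt, hi, hdiag q hq i hi]
    refine ⟨c, ?_, fun q => ?_⟩
    · have := B_app Φ g (dlt p0) (dlt (Φ.mate p0))
      rw [hv p0 hp0, hv _ (Φ.mate_ne hp0), Φ.B_smul_left, Φ.B_smul_right, Φ.B_dlt hp0] at this
      simpa [dlt] using this
    · by_cases hq : Φ.mate q = q
      · have hqp : q ≠ Φ.mate p0 := fun e => (Φ.mate_ne hp0) (e ▸ hq)
        have hqp' : q ≠ p0 := fun e => hp0 (e ▸ hq)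
        have hw : (dlt q : ι → F) (Φ.mate p0) = 0 := by simp [dlt, Ne.symm hqp]
        have e := congrArg (fun k => app k (dlt (Φ.mate p0)))
          (hg _ (eich_mem_rootSub Φ hp0 _ hw))
        simp only [app_mul, app_eichO] at e
        rw [hv _ (Φ.mate_ne hp0), eichFun_smul] at e
        have e1 : Φ.eichFun p0 (dlt q : ι → F) (dlt (Φ.mate p0)) =
            dlt (Φ.mate p0) + dlt q - dlt p0 := by
          simp [Frame.eichFun, Φ.B_dlt_fixed hq, Φ.Q_dlt_fixed hq, dlt, hqp]
        rw [e1, app_sub, app_add, hv _ (Φ.mate_ne hp0), hv p0 hp0] at e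
        linear_combination (norm := module) e
      · exact hv q hq
  · push Not at hex
    refine ⟨1, one_mul 1, fun p => ?_⟩
    obtain ⟨q, -, -, ⟨a1, -⟩, -, -⟩ := h.partners p
    exact absurd (Φ.fixed_unique q p (hex q) (hex p)) a1

/-- The Chevalley group is the projective orthogonal group. -/
theorem nonempty_equiv_POmega
    (hgen : (∃ a : F, a ≠ 0 ∧ a ≠ 1) ∨ ((∀ q, Φ.mate q ≠ q) ∧ ∀ p q, Φ.mate p ≠ p →
      ∃ r, Φ.mate r ≠ r ∧ r ≠ p ∧ r ≠ Φ.mate p ∧ r ≠ q ∧ r ≠ Φ.mate q)) :
    Nonempty (↥(D.group F) ≃* Cfsg.POmega F (Φ.Q F)) := by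
  have hO : Cfsg.Omega F (Φ.Q F) = rootSub Φ F := commutator_O Φ h.two hgen
  let e : ↥(Cfsg.Omega F (Φ.Q F)) ≃* ↥(rootSub Φ F) := MulEquiv.subgroupCongr hO
  let φ : ↥(Cfsg.Omega F (Φ.Q F)) →* ↥(D.group F) :=
    ((MulEquiv.subgroupCongr (adjGL_range (F := F) h)).toMonoidHom.comp
      (adjGL (F := F) h).rangeRestrict).comp e.toMonoidHom
  have hval : ∀ g, ((φ g : GL D.Idx F) : Matrix D.Idx D.Idx F) = adjMat md (g : Φ.O F) :=
    fun g => rfl
  have hsurj : Function.Surjective φ :=
    ((MulEquiv.subgroupCongr (adjGL_range (F := F) h)).surjective.comp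
      (adjGL (F := F) h).rangeRestrict_surjective).comp e.surjective
  have hker : φ.ker = Subgroup.center ↥(Cfsg.Omega F (Φ.Q F)) := by
    ext g
    rw [MonoidHom.mem_ker, Subgroup.mem_center_iff]
    constructor
    · intro hg k
      have h1 : adjMat md (g : Φ.O F) = 1 := by rw [← hval g, hg]; rfl
      obtain ⟨c, -, hc⟩ := scalar_of_adjMat_eq_one h h1
      exact Subtype.ext (scalar_commute h hc _)
    · intro hg
      obtain ⟨c, hc2, hc⟩ := scalar_of_central h (g := (g : Φ.O F)) fun k hk => by
        have := hg ⟨k, hO ▸ hk⟩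
        exact (congrArg Subtype.val this).symm
      refine Subtype.ext (Units.ext ?_)
      rw [hval g, adjMat_scalar h hc2 hc]
      rfl
  exact ⟨((QuotientGroup.quotientMulEquivOfEq hker.symm).trans
    (QuotientGroup.quotientKerEquivOfSurjective φ hsurj)).symm⟩

end CfsgLib.ChevClassical
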